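import Mathlib

/-!
Monomial permutations of `k` blocks of size `p` (and `e < p` further points), and the Sylow
`p`-subgroup they give.
-/

set_option autoImplicit false

namespace CfsgLib.AltSimple

open Equiv

variable {p k e : ℕ} [hp : Fact p.Prime]

/-- `k` blocks indexed by `ZMod p` and `e` further points. -/
abbrev Pts (p k e : ℕ) := (Fin k × ZMod p) ⊕ Fin e

/-- `(i, x) ↦ (π i, a i * x + v i)`. -/
def mon (π : Perm (Fin k)) (a : Fin k → (ZMod p)ˣ) (v : Fin k → ZMod p) : Perm (Pts p k e) :=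
  Equiv.sumCongr
    { toFun := fun x => (π x.1, (a x.1 : ZMod p) * x.2 + v x.1)
      invFun := fun y => (π.symm y.1,
        (((a (π.symm y.1))⁻¹ : (ZMod p)ˣ) : ZMod p) * (y.2 - v (π.symm y.1)))
      left_inv := fun x => by
        simp only [Equiv.symm_apply_apply, add_sub_cancel_right, ← mul_assoc, Units.inv_mul,
          one_mul]
      right_inv := fun y => by
        simp only [Equiv.apply_symm_apply, ← mul_assoc, Units.mul_inv, one_mul, sub_add_cancel] }
    (Equiv.refl _)

@[simp] theorem mon_inl (π : Perm (Fin k)) (a : Fin k → (ZMod p)ˣ) (v : Fin k → ZMod p) (i : Fin k)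
    (x : ZMod p) :
    mon (e := e) π a v (.inl (i, x)) = .inl (π i, (a i : ZMod p) * x + v i) := rfl

@[simp] theorem mon_inr (π : Perm (Fin k)) (a : Fin k → (ZMod p)ˣ) (v : Fin k → ZMod p)
    (t : Fin e) : mon π a v (.inr t) = .inr t := rfl

theorem mon_ext {σ τ : Perm (Pts p k e)} (h : ∀ i x, σ (.inl (i, x)) = τ (.inl (i, x)))
    (h' : ∀ t, σ (.inr t) = τ (.inr t)) : σ = τ :=
  Equiv.ext fun z => by
    rcases z with ⟨i, x⟩ | t
    · exact h i x
    · exact h' t

theorem mon_mul (π ρ : Perm (Fin k)) (a b : Fin k → (ZMod p)ˣ) (v w : Fin k → ZMod p) :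
    mon (e := e) π a v * mon ρ b w = mon (π * ρ) (fun i => a (ρ i) * b i)
      (fun i => (a (ρ i) : ZMod p) * w i + v (ρ i)) := by
  refine mon_ext (fun i x => ?_) fun t => rfl
  rw [Perm.mul_apply, mon_inl, mon_inl, mon_inl, Units.val_mul, Perm.mul_apply]
  congr 2
  ring

theorem mon_one : mon (e := e) (1 : Perm (Fin k)) 1 (0 : Fin k → ZMod p) = 1 :=
  mon_ext (fun i x => by simp) fun t => rfl

theorem mon_injective {π ρ : Perm (Fin k)} {a b : Fin k → (ZMod p)ˣ} {v w : Fin k → ZMod p}
    (h : mon (e := e) π a v = mon ρ b w) : π = ρ ∧ a = b ∧ v = w := by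
  have h1 : ∀ i x, π i = ρ i ∧ (a i : ZMod p) * x + v i = (b i : ZMod p) * x + w i := fun i x => by
    have := DFunLike.congr_fun h (.inl (i, x))
    rw [mon_inl, mon_inl] at this
    exact ⟨congrArg Prod.fst (Sum.inl.inj this), congrArg Prod.snd (Sum.inl.inj this)⟩
  have hv : v = w := funext fun i => by simpa using (h1 i 0).2
  refine ⟨Equiv.ext fun i => (h1 i 0).1, funext fun i => Units.ext ?_, hv⟩
  have := (h1 i 1).2
  rw [hv] at this
  simpa using this

/-- Translations in the blocks. -/
def shift (v : Fin k → ZMod p) : Perm (Pts p k e) := mon 1 1 v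

/-- Permutations of the blocks. -/
def lift (π : Perm (Fin k)) : Perm (Pts p k e) := mon π 1 0

/-- Multipliers in the blocks. -/
def torus (a : Fin k → (ZMod p)ˣ) : Perm (Pts p k e) := mon 1 a 0

theorem shift_mul (v w : Fin k → ZMod p) : shift (e := e) v * shift w = shift (v + w) := by
  rw [shift, shift, mon_mul, shift]
  congr 1 <;> funext i <;> simp [add_comm]

theorem shift_zero : shift (e := e) (0 : Fin k → ZMod p) = 1 := mon_one

theorem shift_inv (v : Fin k → ZMod p) : (shift (e := e) v)⁻¹ = shift (-v) := by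
  rw [inv_eq_iff_mul_eq_one, shift_mul, add_neg_cancel, shift_zero]

theorem shift_injective {v w : Fin k → ZMod p} (h : shift (e := e) v = shift w) : v = w :=
  (mon_injective h).2.2

theorem shift_pow (v : Fin k → ZMod p) (n : ℕ) : shift (e := e) v ^ n = shift (n • v) := by
  induction n with
  | zero => simp [shift_zero]
  | succ n ih => rw [pow_succ, ih, shift_mul, succ_nsmul]

theorem shift_pow_p (v : Fin k → ZMod p) : shift (e := e) v ^ p = 1 := by
  rw [shift_pow, show p • v = 0 from funext fun i => by simp, shift_zero]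

theorem lift_mul (π ρ : Perm (Fin k)) :
    lift (p := p) (e := e) π * lift ρ = lift (π * ρ) := by
  rw [lift, lift, mon_mul, lift]
  congr 1 <;> funext i <;> simp

/-- `lift` as a homomorphism. -/
def liftHom : Perm (Fin k) →* Perm (Pts p k e) :=
  MonoidHom.mk' lift fun π ρ => (lift_mul π ρ).symm

theorem mon_eq (π : Perm (Fin k)) (a : Fin k → (ZMod p)ˣ) (v : Fin k → ZMod p) :
    mon (e := e) π a v = shift (fun i => v (π.symm i)) * lift π * torus a := by
  rw [shift, lift, torus, mon_mul, mon_mul]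
  congr 1 <;> funext i <;> simp

/-- Conjugation of translations. -/
theorem mon_conj_shift (π : Perm (Fin k)) (a : Fin k → (ZMod p)ˣ) (v w : Fin k → ZMod p) :
    mon (e := e) π a v * shift w * (mon π a v)⁻¹ =
      shift (fun i => (a (π.symm i) : ZMod p) * w (π.symm i)) := by
  rw [mul_inv_eq_iff_eq_mul, shift, shift, mon_mul, mon_mul]
  congr 1 <;> funext i <;> simp [add_comm]

/-- Translations of `ZMod p` as a homomorphism. -/
def transHom (p : ℕ) : Multiplicative (ZMod p) →* Perm (ZMod p) :=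
  MonoidHom.mk' (fun c => Equiv.addRight c.toAdd) fun c d => Equiv.ext fun x => by
    simp [add_assoc, add_comm c.toAdd]

/-- Multiplications of `ZMod p` as a homomorphism. -/
def scaleHom (p : ℕ) : (ZMod p)ˣ →* Perm (ZMod p) := MulAction.toPermHom (ZMod p)ˣ (ZMod p)

theorem sign_shift (v : Fin k → ZMod p) :
    Perm.sign (shift (e := e) v) = Perm.sign (transHom p (Multiplicative.ofAdd (∑ i, v i))) := by
  have h : shift (e := e) v = Equiv.sumCongr
      (Equiv.prodCongrRight fun i => transHom p (Multiplicative.ofAdd (v i))) (Equiv.refl _) :=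
    mon_ext (fun i x => by simp [shift, transHom]) fun t => rfl
  rw [h, Perm.sign_sumCongr, Perm.sign_refl, mul_one, Perm.sign_prodCongrRight]
  show _ = (Perm.sign.comp (transHom p)) _
  rw [ofAdd_sum, map_prod]
  rfl

theorem sign_torus (a : Fin k → (ZMod p)ˣ) :
    Perm.sign (torus (e := e) a) = Perm.sign (scaleHom p (∏ i, a i)) := by
  have h : torus (e := e) a = Equiv.sumCongr
      (Equiv.prodCongrRight fun i => scaleHom p (a i)) (Equiv.refl _) :=
    mon_ext (fun i x => by simp [torus, scaleHom, Units.smul_def]) fun t => rfl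
  rw [h, Perm.sign_sumCongr, Perm.sign_refl, mul_one, Perm.sign_prodCongrRight]
  show _ = (Perm.sign.comp (scaleHom p)) _
  rw [map_prod]
  rfl

theorem sign_lift (π : Perm (Fin k)) :
    Perm.sign (lift (p := p) (e := e) π) = Perm.sign π ^ p := by
  have h : lift (p := p) (e := e) π = Equiv.sumCongr
      (Equiv.prodCongrLeft fun _ : ZMod p => π) (Equiv.refl _) :=
    mon_ext (fun i x => by simp [lift]) fun t => rfl
  rw [h, Perm.sign_sumCongr, Perm.sign_refl, mul_one, Perm.sign_prodCongrLeft, Finset.prod_const,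
    Finset.card_univ, ZMod.card]

/-- The wreath product over a group of permutations of the blocks. -/
def wr (P : Subgroup (Perm (Fin k))) : Subgroup (Perm (Pts p k e)) where
  carrier := {σ | ∃ π ∈ P, ∃ v, σ = mon π 1 v}
  one_mem' := ⟨1, P.one_mem, 0, mon_one.symm⟩
  mul_mem' := by
    rintro _ _ ⟨π, hπ, v, rfl⟩ ⟨ρ, hρ, w, rfl⟩
    refine ⟨π * ρ, P.mul_mem hπ hρ, fun i => w i + v (ρ i), (mon_mul π ρ 1 1 v w).trans ?_⟩
    congr 1 <;> funext i <;> simp
  inv_mem' := by
    rintro _ ⟨π, hπ, v, rfl⟩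
    refine ⟨π⁻¹, P.inv_mem hπ, fun i => -v (π⁻¹ i), inv_eq_iff_mul_eq_one.2 ?_⟩
    rw [mon_mul, ← mon_one]
    congr 1
    · simp
    · funext i; simp
    · funext i; simp

theorem card_wr (P : Subgroup (Perm (Fin k))) :
    Nat.card (wr (p := p) (e := e) P) = Nat.card P * p ^ k := by
  let φ : P × (Fin k → ZMod p) → wr (p := p) (e := e) P :=
    fun x => ⟨mon x.1 1 x.2, x.1, x.1.2, x.2, rfl⟩
  have hφ : Function.Bijective φ := by
    refine ⟨fun x y h => ?_, ?_⟩
    · obtain ⟨h1, -, h2⟩ := mon_injective (congrArg Subtype.val h)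
      exact Prod.ext (Subtype.ext h1) h2
    · rintro ⟨_, π, hπ, v, rfl⟩
      exact ⟨(⟨π, hπ⟩, v), rfl⟩
  rw [← Nat.card_congr (Equiv.ofBijective φ hφ), Nat.card_prod, Nat.card_fun, Nat.card_fin,
    Nat.card_zmod]

theorem factorization_card_pts (he : e < p) :
    (Nat.card (Perm (Pts p k e))).factorization p =
      (Nat.card (Perm (Fin k))).factorization p + k := by
  rw [Nat.card_perm, Nat.card_perm]
  simp only [Nat.card_eq_fintype_card, Fintype.card_sum, Fintype.card_prod, ZMod.card,
    Fintype.card_fin, Nat.factorization_def _ hp.out]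
  rw [mul_comm k p, padicValNat_factorial_mul_add k he, padicValNat_factorial_mul]

theorem exists_sylow_wr (he : e < p) (P : Sylow p (Perm (Fin k))) :
    ∃ S : Sylow p (Perm (Pts p k e)),
      (S : Subgroup (Perm (Pts p k e))) = wr (P : Subgroup (Perm (Fin k))) := by
  have hc : Nat.card (wr (p := p) (e := e) (P : Subgroup (Perm (Fin k)))) =
      p ^ (Nat.card (Perm (Pts p k e))).factorization p := by
    rw [card_wr, P.card_eq_multiplicity, factorization_card_pts he, pow_add]
  obtain ⟨S, hS⟩ := (IsPGroup.of_card hc).exists_le_sylow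
  exact ⟨S, (Subgroup.eq_of_le_of_card_ge hS (by rw [hc, S.card_eq_multiplicity])).symm⟩

/-- Generated by its elements of order dividing `p`. -/
def Gen (p : ℕ) {G : Type*} [Group G] (P : Subgroup G) : Prop :=
  P ≤ Subgroup.closure {x | x ∈ P ∧ x ^ p = 1}

theorem Gen.map {G H : Type*} [Group G] [Group H] {P : Subgroup G} (h : Gen p P) (f : G →* H) :
    Gen p (P.map f) := by
  refine (Subgroup.map_mono h).trans ?_
  rw [MonoidHom.map_closure]
  refine Subgroup.closure_mono ?_
  rintro _ ⟨x, ⟨hx, hxp⟩, rfl⟩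
  exact ⟨⟨x, hx, rfl⟩, by rw [← map_pow, hxp, map_one]⟩

theorem gen_wr {P : Subgroup (Perm (Fin k))} (h : Gen p P) : Gen p (wr (p := p) (e := e) P) := by
  rintro _ ⟨π, hπ, v, rfl⟩
  rw [show mon π 1 v = shift (e := e) (fun i => v (π.symm i)) * lift π by
    rw [mon_eq, show torus (e := e) (1 : Fin k → (ZMod p)ˣ) = 1 from mon_one, mul_one]]
  refine Subgroup.mul_mem _ (Subgroup.subset_closure ⟨⟨1, P.one_mem, _, rfl⟩, shift_pow_p _⟩) ?_
  have h1 := (Gen.map h (liftHom (p := p) (k := k) (e := e))) ⟨π, hπ, rfl⟩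
  refine Subgroup.closure_mono ?_ h1
  rintro _ ⟨⟨ρ, hρ, rfl⟩, hp'⟩
  exact ⟨⟨ρ, hρ, 0, rfl⟩, hp'⟩

/-- Sylow subgroups of symmetric groups are generated by their elements of order `p`. -/
theorem sylow_gen : ∀ (n : ℕ) (P : Sylow p (Perm (Fin n))), Gen p (P : Subgroup (Perm (Fin n))) := by
  intro n
  induction n using Nat.strong_induction_on with
  | _ n ih =>
  intro P
  rcases Nat.lt_or_ge n p with h | h
  · have hc : Nat.card (P : Subgroup (Perm (Fin n))) = 1 := by
      rw [P.card_eq_multiplicity, Nat.card_perm, Nat.card_fin,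
        Nat.factorization_eq_zero_of_not_dvd
          (fun hd => absurd ((Nat.Prime.dvd_factorial hp.out).1 hd) (not_le.2 h)), pow_zero]
    intro x hx
    rw [Subgroup.eq_bot_of_card_eq _ hc, Subgroup.mem_bot] at hx
    rw [hx]
    exact Subgroup.one_mem _
  · obtain ⟨Q⟩ : Nonempty (Sylow p (Perm (Fin (n / p)))) := inferInstance
    obtain ⟨S, hS⟩ := exists_sylow_wr (e := n % p) (Nat.mod_lt n hp.out.pos) Q
    have hgen : Gen p (S : Subgroup (Perm (Pts p (n / p) (n % p)))) :=
      hS ▸ gen_wr (ih _ (Nat.div_lt_self (hp.out.pos.trans_le h) hp.out.one_lt) Q)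
    let ε : Pts p (n / p) (n % p) ≃ Fin n := Fintype.equivFinOfCardEq (by
      simp only [Fintype.card_sum, Fintype.card_prod, Fintype.card_fin, ZMod.card]
      exact Nat.div_add_mod' n p)
    let f := ε.permCongrHom
    obtain ⟨g, hg⟩ := MulAction.exists_smul_eq (Perm (Fin n))
      (S.mapSurjective (f := f.toMonoidHom) f.surjective) P
    rw [← hg, Sylow.coe_subgroup_smul]
    exact (hgen.map f.toMonoidHom).map _

/-- A Sylow subgroup of the alternating group of the model set. -/
theorem exists_sylow_alt (he : e < p) (P : Sylow p (Perm (Fin k))) :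
    ∃ S : Sylow p (alternatingGroup (Pts p k e)), (S : Subgroup (alternatingGroup (Pts p k e))) =
      (wr (P : Subgroup (Perm (Fin k)))).subgroupOf _ := by
  obtain ⟨T, hT⟩ := exists_sylow_wr he P
  have hp' : IsPGroup p ((wr (p := p) (e := e) (P : Subgroup (Perm (Fin k)))).subgroupOf
      (alternatingGroup (Pts p k e))) := by
    refine IsPGroup.comap_of_injective ?_ _ Subtype.val_injective
    rw [← hT]; exact T.isPGroup'
  obtain ⟨S, hS⟩ := hp'.exists_le_sylow
  refine ⟨S, (Subgroup.eq_of_le_of_card_ge hS ?_).symm⟩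
  obtain ⟨R, hR⟩ := ((S.isPGroup').map (alternatingGroup (Pts p k e)).subtype).exists_le_sylow
  obtain ⟨g, hg⟩ := MulAction.exists_smul_eq (Perm (Pts p k e)) R T
  refine Nat.card_le_card_of_injective (fun s : (S : Subgroup (alternatingGroup (Pts p k e))) =>
    (⟨⟨g * ((s : alternatingGroup (Pts p k e)) : Perm (Pts p k e)) * g⁻¹,
      Subgroup.Normal.conj_mem inferInstance _ (s : alternatingGroup (Pts p k e)).2 g⟩, ?_⟩ :
        (wr (p := p) (e := e) (P : Subgroup (Perm (Fin k)))).subgroupOf _)) fun s t h => ?_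
  · show g * ((s : alternatingGroup (Pts p k e)) : Perm (Pts p k e)) * g⁻¹ ∈ wr _
    rw [← hT, ← hg, Sylow.coe_subgroup_smul]
    exact Subgroup.smul_mem_pointwise_smul _ (MulAut.conj g) _ (hR ⟨_, s.2, rfl⟩)
  · have := congrArg (fun u => ((u : alternatingGroup (Pts p k e)) : Perm (Pts p k e)))
      (congrArg Subtype.val h)
    simp only [mul_left_inj, mul_right_inj] at this
    exact Subtype.ext (Subtype.ext this)

end CfsgLib.AltSimple
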