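import Mathlib
import Cfsg.Agent.Lib.Fusion.AltSimple.Setup
import Cfsg.Agent.Lib.Fusion.Group
import Cfsg.Agent.Lib.Fusion.Normal
import Cfsg.Agent.Lib.Critical.Basic

/-!
The model Sylow subgroup of an alternating group has no proper nontrivial strongly closed
subgroup.
-/

set_option autoImplicit false

namespace CfsgLib.AltSimple

open Equiv Cfsg Cfsg.FusionSystem

variable {p k e : ℕ} [hp : Fact p.Prime]

/-- The alternating group on the model set. -/
abbrev Alt (p k e : ℕ) [Fact p.Prime] : Subgroup (Perm (Pts p k e)) := alternatingGroup (Pts p k e)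

/-- The translations that are even. -/
def Adm (p k e : ℕ) [Fact p.Prime] (v : Fin k → ZMod p) : Prop :=
  shift (e := e) v ∈ Alt p k e

theorem sign_eq_one_of_pow_eq_one {α : Type*} [DecidableEq α] [Fintype α] {σ : Perm α}
    (hp2 : p ≠ 2) (h : σ ^ p = 1) : Perm.sign σ = 1 := by
  rcases Int.units_eq_one_or (Perm.sign σ) with h' | h'
  · exact h'
  · have := congrArg Perm.sign h
    rw [map_pow, h', (hp.out.odd_of_ne_two hp2).neg_one_pow, map_one] at this
    exact absurd this (by decide)

theorem adm_of_odd (hp2 : p ≠ 2) (v : Fin k → ZMod p) : Adm p k e v := by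
  rw [Adm, Perm.mem_alternatingGroup]
  exact sign_eq_one_of_pow_eq_one hp2 (shift_pow_p v)

theorem adm_of_sum {v : Fin k → ZMod p} (h : ∑ i, v i = 0) : Adm p k e v := by
  rw [Adm, Perm.mem_alternatingGroup, sign_shift, h, ofAdd_zero, map_one, map_one]

theorem sum_eq_zero_of_adm {v : Fin k → ZMod 2} (h : Adm 2 k e v) : ∑ i, v i = 0 := by
  rw [Adm, Perm.mem_alternatingGroup, sign_shift] at h
  generalize ∑ i, v i = c at h
  revert h
  fin_cases c
  · exact fun _ => rfl
  · intro h; exact absurd h (by decide)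

theorem sign_shift_single (l : Fin k) :
    Perm.sign (shift (e := e) (Pi.single l (1 : ZMod 2))) = -1 := by
  rw [sign_shift, Finset.sum_pi_single']
  simp only [Finset.mem_univ, if_true]
  decide

theorem exists_third (hk : 3 ≤ k) (i j : Fin k) : ∃ l, l ≠ i ∧ l ≠ j := by
  obtain ⟨l, -, hl⟩ := Finset.exists_mem_notMem_of_card_lt_card
    (s := ({i, j} : Finset (Fin k))) (t := Finset.univ)
    (lt_of_le_of_lt Finset.card_le_two (by simp; omega))
  simp at hl
  exact ⟨l, hl.1, hl.2⟩

/-- Admissible translations separate the blocks. -/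
theorem exists_adm (hk : 3 ≤ k) {i j : Fin k} (hij : i ≠ j) :
    ∃ w, Adm p k e w ∧ w i = 1 ∧ w j = 0 := by
  rcases eq_or_ne p 2 with rfl | hp2
  · obtain ⟨l, hli, hlj⟩ := exists_third hk i j
    refine ⟨Pi.single i 1 + Pi.single l 1, adm_of_sum ?_, ?_, ?_⟩
    · simp [Finset.sum_add_distrib, Pi.add_apply, Finset.sum_pi_single']
      exact CharTwo.add_self_eq_zero _
    · simp [hli.symm]
    · simp [hij.symm, hlj.symm]
  · exact ⟨Pi.single i 1, adm_of_odd hp2 _, by simp, by simp [hij.symm]⟩

/-- A permutation commuting with a regular translation action on a set translates it. -/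
theorem exists_trans_of_commute {A X : Type*} [AddCommGroup A] [Nontrivial A] (emb : A → X)
    (c : Perm X) (τ : A → Perm X) (hin : ∀ a x, τ a (emb x) = emb (x + a))
    (hout : ∀ a z, (∀ x, emb x ≠ z) → τ a z = z) (hemb : Function.Injective emb)
    (hc : ∀ a, c * τ a = τ a * c) : ∃ b, ∀ x, c (emb x) = emb (x + b) := by
  have hrange : ∃ b, c (emb 0) = emb b := by
    by_contra h
    push Not at h
    obtain ⟨a, ha⟩ := exists_ne (0 : A)
    have h1 := DFunLike.congr_fun (hc a) (emb 0)
    rw [Perm.mul_apply, Perm.mul_apply, hin, zero_add, hout a _ fun x hx => h x hx.symm] at h1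
    exact ha (hemb (c.injective h1))
  obtain ⟨b, hb⟩ := hrange
  refine ⟨b, fun x => ?_⟩
  have h1 := DFunLike.congr_fun (hc x) (emb 0)
  rw [Perm.mul_apply, Perm.mul_apply, hin, zero_add, hb, hin, add_comm] at h1
  exact h1

/-- Fusion inside the alternating group keeps a strongly closed subgroup. -/
theorem conj_mem_of_sc {G : Type*} [Group G] {S T : Subgroup G}
    (hT : (groupFusionSystem S).StronglyClosed T) {g x : G} (hx : x ∈ T)
    (hg : g * x * g⁻¹ ∈ S) : g * x * g⁻¹ ∈ T :=
  Fusion.isMap_mem_of_stronglyClosed hT (Fusion.isMap_group_of_conj g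
    (Subgroup.zpowers_le.2 (hT.1 hx)) (by
      rintro _ ⟨n, rfl⟩
      rw [← conj_zpow]
      exact Subgroup.zpow_mem _ hg n)) (Subgroup.mem_zpowers x) hx

section

variable {P : Sylow p (Perm (Fin k))} {S : Sylow p (Alt p k e)}

/-- The translations lie in the model Sylow subgroup. -/
theorem shift_mem (hS : (S : Subgroup (Alt p k e)) = (wr (P : Subgroup (Perm (Fin k)))).subgroupOf _)
    {v : Fin k → ZMod p} (hv : Adm p k e v) : (⟨shift v, hv⟩ : Alt p k e) ∈ (S : Subgroup _) := by
  rw [hS]
  exact ⟨1, Subgroup.one_mem _, v, rfl⟩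

theorem mon_mem_alt_iff_conj {σ τ : Perm (Pts p k e)} (h : τ ∈ Alt p k e) :
    σ * τ * σ⁻¹ ∈ Alt p k e :=
  Subgroup.Normal.conj_mem inferInstance _ h σ

theorem sign_lift_sylow {π : Perm (Fin k)} (hπ : π ∈ (P : Subgroup (Perm (Fin k)))) :
    Perm.sign (lift (p := p) (e := e) π) = 1 := by
  rw [sign_lift]
  rcases eq_or_ne p 2 with rfl | hp2
  · exact Int.units_sq _
  · obtain ⟨a, ha⟩ := P.isPGroup' ⟨π, hπ⟩
    rcases Int.units_eq_one_or (Perm.sign π) with h | h
    · rw [h, one_pow]
    · have := congrArg Perm.sign (congrArg Subtype.val ha)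
      simp only [SubmonoidClass.coe_pow, map_pow, h, OneMemClass.coe_one, map_one,
        ((hp.out.odd_of_ne_two hp2).pow).neg_one_pow] at this
      exact absurd this (by decide)

/-- An element of order `p` is conjugate to a translation. -/
theorem exists_conj_shift (he : e ≤ 1) (hk : 3 ≤ k) {x : Perm (Pts p k e)} (hx : x ∈ Alt p k e)
    (hxp : x ^ p = 1) :
    ∃ (v : Fin k → ZMod p) (_ : Adm p k e v), ∃ g ∈ Alt p k e, g * shift v * g⁻¹ = x := by
  classical
  set m := x.cycleType.card
  have hx' := Perm.cycleType_of_pow_prime_eq_one hxp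
  have hmk : m ≤ k := by
    have h1 := Perm.sum_cycleType_le x
    rw [hx', Multiset.sum_replicate, smul_eq_mul] at h1
    simp only [Fintype.card_sum, Fintype.card_prod, Fintype.card_fin, ZMod.card] at h1
    by_contra h
    have : (k + 1) * p ≤ m * p := Nat.mul_le_mul_right _ (by omega)
    have := hp.out.two_le
    rw [Nat.succ_mul] at *
    simp only [m] at *
    omega
  obtain ⟨s, -, hs⟩ := Finset.exists_subset_card_eq (s := (Finset.univ : Finset (Fin k))) (n := m)
    (by simpa using hmk)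
  set v : Fin k → ZMod p := fun i => if i ∈ s then 1 else 0 with hvdef
  have hsupp : (shift (e := e) v).support =
      (s ×ˢ (Finset.univ : Finset (ZMod p))).map ⟨Sum.inl, Sum.inl_injective⟩ := by
    ext z
    rcases z with ⟨i, y⟩ | t
    · simp [shift, hvdef]
    · simp [shift]
  have hct : (shift (e := e) v).cycleType = x.cycleType := by
    have h1 := Perm.cycleType_of_pow_prime_eq_one (shift_pow_p (e := e) v)
    have h2 := Perm.sum_cycleType (shift (e := e) v)
    rw [hsupp, Finset.card_map, Finset.card_product, hs, Finset.card_univ, ZMod.card, h1,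
      Multiset.sum_replicate, smul_eq_mul] at h2
    rw [h1, hx', Nat.eq_of_mul_eq_mul_right hp.out.pos h2]
  have hv : Adm p k e v := by
    rw [Adm, Perm.mem_alternatingGroup, Perm.sign_of_cycleType, hct, ← Perm.sign_of_cycleType]
    exact hx
  obtain ⟨c, hc⟩ := isConj_iff.1 (Perm.isConj_of_cycleType_eq hct)
  obtain ⟨d, hd, hdv⟩ : ∃ d : Perm (Pts p k e),
      Perm.sign d = -1 ∧ d * shift v * d⁻¹ = shift v := by
    by_cases hall : ∀ i, i ∈ s
    · have hv1 : v = fun _ => 1 := funext fun i => by simp [hvdef, hall i]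
      rcases eq_or_ne p 2 with rfl | hp2
      · refine ⟨shift (Pi.single ⟨0, by omega⟩ 1), sign_shift_single _, ?_⟩
        rw [mul_inv_eq_iff_eq_mul, shift_mul, shift_mul, add_comm]
      · refine ⟨lift (swap ⟨0, by omega⟩ ⟨1, by omega⟩), ?_, ?_⟩
        · rw [sign_lift, Perm.sign_swap (by simp), (hp.out.odd_of_ne_two hp2).neg_one_pow]
        · rw [lift, mon_conj_shift]
          congr 1
          simp [hv1]
    · push Not at hall
      obtain ⟨i, hi⟩ := hall
      refine ⟨swap (.inl (i, 0)) (.inl (i, 1)), Perm.sign_swap (by simp), ?_⟩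
      rw [mul_inv_eq_iff_eq_mul, eq_comm, Equiv.mul_swap_eq_swap_mul]
      simp [shift, hvdef, hi]
  rcases Int.units_eq_one_or (Perm.sign c) with h | h
  · exact ⟨v, hv, c, h, hc⟩
  · refine ⟨v, hv, c * d, ?_, ?_⟩
    · rw [Perm.mem_alternatingGroup, map_mul, h, hd]; decide
    · rw [mul_inv_rev, show c * d * shift v * (d⁻¹ * c⁻¹) = c * (d * shift v * d⁻¹) * c⁻¹ by group,
        hdv, hc]

/-- The translations in a strongly closed subgroup. -/
def closedVec (T : Subgroup (Alt p k e)) : AddSubgroup (Fin k → ZMod p) where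
  carrier := {v | ∃ h : Adm p k e v, (⟨shift v, h⟩ : Alt p k e) ∈ T}
  zero_mem' := ⟨by rw [Adm, shift_zero]; exact Subgroup.one_mem _, by
    convert T.one_mem using 1; exact Subtype.ext shift_zero⟩
  add_mem' := by
    rintro a b ⟨ha, hta⟩ ⟨hb, htb⟩
    refine ⟨by rw [Adm, ← shift_mul]; exact Subgroup.mul_mem _ ha hb, ?_⟩
    convert T.mul_mem hta htb using 1
    exact Subtype.ext (shift_mul a b).symm
  neg_mem' := by
    rintro a ⟨ha, hta⟩
    refine ⟨by rw [Adm, ← shift_inv]; exact Subgroup.inv_mem _ ha, ?_⟩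
    convert T.inv_mem hta using 1
    exact Subtype.ext (shift_inv a).symm

theorem mon_closedVec (hS : (S : Subgroup (Alt p k e)) = (wr (P : Subgroup (Perm (Fin k)))).subgroupOf _)
    {T : Subgroup (Alt p k e)} (hT : (groupFusionSystem (S : Subgroup (Alt p k e))).StronglyClosed T)
    {π : Perm (Fin k)} {a : Fin k → (ZMod p)ˣ} (hg : mon (e := e) π a 0 ∈ Alt p k e)
    {v : Fin k → ZMod p} (hv : v ∈ closedVec T) :
    (fun i => (a (π.symm i) : ZMod p) * v (π.symm i)) ∈ closedVec T := by
  obtain ⟨h, hvT⟩ := hv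
  have hconj := mon_conj_shift (e := e) π a 0 v
  have hadm : Adm p k e (fun i => (a (π.symm i) : ZMod p) * v (π.symm i)) := by
    rw [Adm, ← hconj]
    exact mon_mem_alt_iff_conj h
  refine ⟨hadm, ?_⟩
  have he : (⟨_, hg⟩ : Alt p k e) * ⟨shift v, h⟩ * (⟨_, hg⟩ : Alt p k e)⁻¹ = ⟨_, hadm⟩ :=
    Subtype.ext hconj
  rw [← he]
  exact conj_mem_of_sc hT hvT (he ▸ shift_mem hS hadm)

theorem closedVec_odd (hp2 : p ≠ 2) (hk : 3 ≤ k)
    (hS : (S : Subgroup (Alt p k e)) = (wr (P : Subgroup (Perm (Fin k)))).subgroupOf _)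
    {T : Subgroup (Alt p k e)} (hT : (groupFusionSystem (S : Subgroup (Alt p k e))).StronglyClosed T)
    {v : Fin k → ZMod p} (hv : v ∈ closedVec T) (hv0 : v ≠ 0) (u : Fin k → ZMod p) :
    u ∈ closedVec T := by
  obtain ⟨i, hi⟩ : ∃ i, v i ≠ 0 := by
    by_contra h
    exact hv0 (funext fun i => not_not.1 fun h' => h ⟨i, h'⟩)
  obtain ⟨j, hji, -⟩ := exists_third hk i i
  obtain ⟨l, hli, hlj⟩ := exists_third hk i j
  let a : Fin k → Fin k → (ZMod p)ˣ := fun r n => if n = i ∨ n = r then -1 else 1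
  have ha : ∀ r, r ≠ i → mon (e := e) 1 (a r) 0 ∈ Alt p k e := fun r hr => by
    rw [Perm.mem_alternatingGroup]
    show Perm.sign (torus (e := e) (a r)) = 1
    rw [sign_torus]
    have : ∏ n, a r n = 1 := by
      rw [← Finset.prod_subset (Finset.subset_univ ({i, r} : Finset (Fin k))) fun n _ hn => by
        simp at hn; simp [a, hn], Finset.prod_pair hr.symm]
      simp [a]
    rw [this, map_one, map_one]
  have hsub : ∀ r, r ≠ i → ∀ w ∈ closedVec T,
      (fun n => if n = i ∨ n = r then 2 * w n else 0) ∈ closedVec T := fun r hr w hw => by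
    convert AddSubgroup.sub_mem _ hw (mon_closedVec hS hT (ha r hr) hw) using 1
    funext n
    by_cases h : n = i ∨ n = r <;> simp [a, h, two_mul, Perm.one_def]
  have h1 := hsub l hli _ (hsub j hji v hv)
  have h4 : (4 : ZMod p) * v i ≠ 0 := by
    refine mul_ne_zero (fun h => ?_) hi
    have h2 : ((4 : ℕ) : ZMod p) = 0 := by exact_mod_cast h
    rw [ZMod.natCast_eq_zero_iff] at h2
    exact hp2 ((Nat.prime_dvd_prime_iff_eq hp.out Nat.prime_two).1
      (hp.out.dvd_of_dvd_pow (show p ∣ 2 ^ 2 from h2)))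
  have hsingle : ∀ c : ZMod p, Pi.single i c ∈ closedVec T := by
    intro c
    have h5 := AddSubgroup.nsmul_mem _ h1 (c * (4 * v i)⁻¹).val
    convert h5 using 1
    funext n
    by_cases hn : n = i
    · subst hn
      simp only [Pi.smul_apply, true_or, if_true, Pi.single_eq_same, nsmul_eq_mul,
        ZMod.natCast_zmod_val]
      rw [show (2 : ZMod p) * (2 * v n) = 4 * v n by ring, mul_assoc, inv_mul_cancel₀ h4, mul_one]
    · by_cases hnl : n = l
      · subst hnl
        simp [hn, hlj]
      · simp [hn, hnl]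
  have hall : ∀ (r : Fin k) (c : ZMod p), Pi.single r c ∈ closedVec T := by
    intro r c
    by_cases hr : r = i
    · exact hr ▸ hsingle c
    · obtain ⟨q, hqi, hqr⟩ := exists_third hk i r
      have hπ : mon (p := p) (e := e) (swap i r * swap r q) 1 0 ∈ Alt p k e := by
        rw [Perm.mem_alternatingGroup]
        show Perm.sign (lift (p := p) (e := e) _) = 1
        rw [sign_lift, map_mul, Perm.sign_swap (Ne.symm hr), Perm.sign_swap hqr.symm]
        simp
      convert mon_closedVec hS hT hπ (hsingle c) using 1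
      funext n
      simp only [Pi.one_apply, Units.val_one, one_mul]
      have hπi : (swap i r * swap r q) i = r := by
        rw [Perm.mul_apply, swap_apply_of_ne_of_ne (Ne.symm hr) hqi.symm, swap_apply_left]
      by_cases hn : n = r
      · subst hn
        rw [(Equiv.symm_apply_eq _).2 hπi.symm, Pi.single_eq_same, Pi.single_eq_same]
      · rw [Pi.single_eq_of_ne hn, Pi.single_eq_of_ne]
        intro h
        exact hn (((Equiv.symm_apply_eq _).1 h).trans hπi)
  rw [← Finset.univ_sum_single u]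
  exact AddSubgroup.sum_mem _ fun r _ => hall r _

theorem closedVec_two {P : Sylow 2 (Perm (Fin k))} {S : Sylow 2 (Alt 2 k e)} (hk : 3 ≤ k)
    (hS : (S : Subgroup (Alt 2 k e)) = (wr (P : Subgroup (Perm (Fin k)))).subgroupOf _)
    {T : Subgroup (Alt 2 k e)} (hT : (groupFusionSystem (S : Subgroup (Alt 2 k e))).StronglyClosed T)
    {a b : Fin k} (hab : a ≠ b) (hswap : swap a b ∈ (P : Subgroup (Perm (Fin k))))
    {v : Fin k → ZMod 2} (hv : v ∈ closedVec T) (hv0 : v ≠ 0) {u : Fin k → ZMod 2}
    (hu : Adm 2 k e u) : u ∈ closedVec T := by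
  have hlift : ∀ π : Perm (Fin k), mon (p := 2) (e := e) π 1 0 ∈ Alt 2 k e := fun π => by
    rw [Perm.mem_alternatingGroup]
    show Perm.sign (lift (p := 2) (e := e) π) = 1
    rw [sign_lift, Int.units_sq]
  have hperm : ∀ (π : Perm (Fin k)) w, w ∈ closedVec T → (fun n => w (π.symm n)) ∈ closedVec T :=
    fun π w hw => by simpa using mon_closedVec hS hT (hlift π) hw
  have h2 : ∀ x : ZMod 2, x = 0 ∨ x = 1 := by decide
  obtain ⟨i, j, hij, hpair⟩ : ∃ i j : Fin k, i ≠ j ∧
      Pi.single i 1 + Pi.single j 1 ∈ closedVec T := by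
    by_cases hc : ∃ i j, v i ≠ v j
    · obtain ⟨i, j, hvij⟩ := hc
      have hij : i ≠ j := fun h => hvij (h ▸ rfl)
      refine ⟨i, j, hij, ?_⟩
      convert AddSubgroup.add_mem _ hv (hperm (swap i j) v hv) using 1
      funext n
      simp only [Pi.add_apply, Equiv.symm_swap]
      by_cases h1 : n = i
      · subst h1
        rw [swap_apply_left, Pi.single_eq_same, Pi.single_eq_of_ne hij]
        rcases h2 (v n) with h | h <;> rcases h2 (v j) with h' | h' <;> rw [h, h'] at hvij ⊢ <;>
          first | exact absurd rfl hvij | simp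
      · by_cases h3 : n = j
        · subst h3
          rw [swap_apply_right, Pi.single_eq_same, Pi.single_eq_of_ne hij.symm]
          rcases h2 (v n) with h | h <;> rcases h2 (v i) with h' | h' <;> rw [h, h'] at hvij ⊢ <;>
            first | exact absurd rfl hvij | simp
        · rw [swap_apply_of_ne_of_ne h1 h3, Pi.single_eq_of_ne h1, Pi.single_eq_of_ne h3,
            CharTwo.add_self_eq_zero]
          exact (CharTwo.add_self_eq_zero _).symm
    · push Not at hc
      refine ⟨a, b, hab, ?_⟩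
      have hv1 : ∀ n, v n = 1 := fun n => (h2 (v n)).resolve_left fun h =>
        hv0 (funext fun m => (hc m n).trans h)
      obtain ⟨l, hla, hlb⟩ := exists_third hk a b
      obtain ⟨hadm, hvT⟩ := hv
      set d := shift (e := e) (Pi.single l (1 : ZMod 2))
      -- the first fusion
      set w : Fin k → ZMod 2 := fun n => if n = a ∨ n = b then 0 else 1
      set g₁ := swap (Sum.inl (a, (1 : ZMod 2)) : Pts 2 k e) (Sum.inl (b, 0)) * d
      have hg₁ : g₁ ∈ Alt 2 k e := by
        rw [Perm.mem_alternatingGroup, map_mul, Perm.sign_swap (by simp [hab]), sign_shift_single]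
        decide
      have hq : g₁ * shift v * g₁⁻¹ = mon (e := e) (swap a b) 1 w := by
        have hcomm : d * shift v * d⁻¹ = shift v := by
          rw [mul_inv_eq_iff_eq_mul, shift_mul, shift_mul, add_comm]
        rw [show g₁ * shift v * g₁⁻¹ = swap (Sum.inl (a, (1 : ZMod 2)) : Pts 2 k e) (Sum.inl (b, 0)) *
          (d * shift v * d⁻¹) * (swap (Sum.inl (a, (1 : ZMod 2))) (Sum.inl (b, 0)))⁻¹ by
            simp only [g₁]; group, hcomm, mul_inv_eq_iff_eq_mul]
        refine mon_ext (fun n x => ?_) fun t => ?_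
        · simp only [Perm.mul_apply, shift, mon_inl, Pi.one_apply, Units.val_one, one_mul,
            Perm.coe_one, id_eq, hv1, w]
          rcases h2 x with rfl | rfl
          all_goals
            by_cases h1 : n = a
            · subst h1; simp [swap_apply_def, hab, hab.symm]; try decide
            · by_cases h3 : n = b
              · subst h3; simp [swap_apply_def, hab, hab.symm]; try decide
              · simp [swap_apply_def, h1, h3]
        · simp [shift, swap_apply_def]
      have hqA : mon (e := e) (swap a b) 1 w ∈ Alt 2 k e := hq ▸ mon_mem_alt_iff_conj hadm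
      have hqT : (⟨_, hqA⟩ : Alt 2 k e) ∈ T := by
        have he : (⟨_, hg₁⟩ : Alt 2 k e) * ⟨shift v, hadm⟩ * (⟨_, hg₁⟩ : Alt 2 k e)⁻¹ = ⟨_, hqA⟩ :=
          Subtype.ext hq
        rw [← he]
        refine conj_mem_of_sc hT hvT ?_
        rw [he, hS]
        exact ⟨_, hswap, w, rfl⟩
      -- the second fusion
      set u₀ : Fin k → ZMod 2 := Pi.single a 1 + Pi.single b 1
      set g₂ := swap (Sum.inl (a, (1 : ZMod 2)) : Pts 2 k e) (Sum.inl (b, 1)) * d
      have hg₂ : g₂ ∈ Alt 2 k e := by
        rw [Perm.mem_alternatingGroup, map_mul, Perm.sign_swap (by simp [hab]), sign_shift_single]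
        decide
      have hu₀ : Adm 2 k e u₀ := adm_of_sum (by
        simp [u₀, Finset.sum_add_distrib, Pi.add_apply, Finset.sum_pi_single']
        decide)
      have hr : mon (e := e) (swap a b) 1 w * shift v = mon (e := e) (swap a b) 1 u₀ := by
        rw [shift, mon_mul, mul_one]
        congr 1
        funext n
        simp only [Pi.one_apply, Units.val_one, one_mul, Perm.coe_one, id_eq, hv1, w, u₀,
            Pi.add_apply]
        by_cases h1 : n = a
        · subst h1; simp [hab]
        · by_cases h3 : n = b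
          · subst h3; simp [hab.symm]
          · simp [h1, h3]; decide
      have hconj : g₂ * shift u₀ * g₂⁻¹ = mon (e := e) (swap a b) 1 u₀ := by
        have hcomm : d * shift u₀ * d⁻¹ = shift u₀ := by
          rw [mul_inv_eq_iff_eq_mul, shift_mul, shift_mul, add_comm]
        rw [show g₂ * shift u₀ * g₂⁻¹ = swap (Sum.inl (a, (1 : ZMod 2)) : Pts 2 k e) (Sum.inl (b, 1)) *
          (d * shift u₀ * d⁻¹) * (swap (Sum.inl (a, (1 : ZMod 2))) (Sum.inl (b, 1)))⁻¹ by
            simp only [g₂]; group, hcomm, mul_inv_eq_iff_eq_mul]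
        refine mon_ext (fun n x => ?_) fun t => ?_
        · simp only [Perm.mul_apply, shift, mon_inl, Pi.one_apply, Units.val_one, one_mul,
            Perm.coe_one, id_eq, u₀, Pi.add_apply]
          rcases h2 x with rfl | rfl
          all_goals
            by_cases h1 : n = a
            · subst h1; simp [swap_apply_def, hab, hab.symm]; try decide
            · by_cases h3 : n = b
              · subst h3; simp [swap_apply_def, hab, hab.symm]; try decide
              · simp [swap_apply_def, h1, h3]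
        · simp [shift, swap_apply_def]
      refine ⟨hu₀, ?_⟩
      have hrA : mon (e := e) (swap a b) 1 u₀ ∈ Alt 2 k e := hconj ▸ mon_mem_alt_iff_conj hu₀
      have hrT : (⟨_, hrA⟩ : Alt 2 k e) ∈ T := by
        have he : (⟨_, hqA⟩ : Alt 2 k e) * ⟨shift v, hadm⟩ = ⟨_, hrA⟩ := Subtype.ext hr
        exact he ▸ T.mul_mem hqT hvT
      have he : (⟨_, hg₂⟩ : Alt 2 k e)⁻¹ * ⟨_, hrA⟩ * (⟨_, hg₂⟩ : Alt 2 k e)⁻¹⁻¹ =
          ⟨shift u₀, hu₀⟩ := by
        refine Subtype.ext ?_
        show g₂⁻¹ * mon (e := e) (swap a b) 1 u₀ * g₂⁻¹⁻¹ = shift u₀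
        rw [← hconj]
        group
      rw [← he]
      exact conj_mem_of_sc hT hrT (he ▸ shift_mem hS hu₀)
  have hpairs : ∀ m : Fin k, ∀ n : Fin k, m ≠ n →
      Pi.single m 1 + Pi.single n 1 ∈ closedVec T := by
    intro m n hmn
    obtain ⟨π, hπ⟩ : ∃ π : Perm (Fin k), π i = m ∧ π j = n := by
      refine ⟨swap (swap i m j) n * swap i m, ?_, ?_⟩
      · rw [Perm.mul_apply, swap_apply_left, swap_apply_of_ne_of_ne ?_ hmn]
        intro h
        exact hij ((swap i m).injective ((swap_apply_left i m).trans h))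
      · rw [Perm.mul_apply, swap_apply_left]
    convert hperm π _ hpair using 1
    funext r
    simp only [Pi.add_apply, Pi.single_apply, Equiv.symm_apply_eq, hπ.1, hπ.2]
  have hsum := sum_eq_zero_of_adm hu
  have hu' : u = ∑ n, u n • (Pi.single n (1 : ZMod 2) + Pi.single a 1) := by
    simp only [smul_add, Finset.sum_add_distrib, ← Finset.sum_smul, hsum, zero_smul, add_zero]
    funext r
    simp [Finset.sum_apply, Pi.single_apply]
  rw [hu']
  refine AddSubgroup.sum_mem _ fun n _ => ?_
  rcases h2 (u n) with h | h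
  · rw [h, zero_smul]; exact AddSubgroup.zero_mem _
  · rw [h, one_smul]
    by_cases hna : n = a
    · subst hna
      convert AddSubgroup.zero_mem (closedVec T) using 1
      funext r
      exact CharTwo.add_self_eq_zero _
    · exact hpairs n a hna

/-- No proper nontrivial strongly closed subgroup. -/
theorem stronglyClosed_eq (he : e ≤ 1) (hk : 3 ≤ k)
    (h2 : p = 2 → ∃ a b : Fin k, a ≠ b ∧ swap a b ∈ (P : Subgroup (Perm (Fin k))))
    (hS : (S : Subgroup (Alt p k e)) = (wr (P : Subgroup (Perm (Fin k)))).subgroupOf _)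
    (T : Subgroup (Alt p k e)) (hT : (groupFusionSystem (S : Subgroup (Alt p k e))).StronglyClosed T) :
    T = ⊥ ∨ T = (S : Subgroup (Alt p k e)) := by
  refine or_iff_not_imp_left.2 fun hne => le_antisymm hT.1 ?_
  haveI hn : (T.subgroupOf (S : Subgroup (Alt p k e))).Normal := ⟨fun n hn g =>
    Subgroup.mem_subgroupOf.2 (conj_mem_of_sc hT (Subgroup.mem_subgroupOf.1 hn)
      (g * n * g⁻¹).2)⟩
  have : Group.IsNilpotent (S : Subgroup (Alt p k e)) := S.isPGroup'.isNilpotent
  have hTS : T.subgroupOf (S : Subgroup (Alt p k e)) ≠ ⊥ := fun h => hne (by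
    rwa [Subgroup.subgroupOf_eq_bot, disjoint_iff, inf_eq_left.2 hT.1] at h)
  obtain ⟨⟨z, hzT, hzC⟩, hz1'⟩ :=
    Subgroup.ne_bot_iff_exists_ne_one.1 (CfsgLib.Critical.inf_center_ne_bot _ hTS)
  have hz1 : z ≠ 1 := fun h => hz1' (Subtype.ext h)
  obtain ⟨π, hπ, v, hzv⟩ : ((z : Alt p k e) : Perm (Pts p k e)) ∈ wr (P : Subgroup (Perm (Fin k))) :=
    hS.le z.2
  have hπ1 : π = 1 := by
    by_contra hπ1
    obtain ⟨i, hi⟩ : ∃ i, π.symm i ≠ i := by
      by_contra h
      push Not at h
      exact hπ1 (Equiv.ext fun i => by simpa using (congrArg π (h i)).symm)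
    obtain ⟨w, hw, hwi, hwj⟩ := exists_adm (p := p) (e := e) hk (Ne.symm hi)
    have h1 := congrArg (fun y : (S : Subgroup (Alt p k e)) => ((y : Alt p k e) : Perm (Pts p k e)))
      (Subgroup.mem_center_iff.1 hzC ⟨⟨shift w, hw⟩, shift_mem hS hw⟩)
    simp only [Subgroup.coe_mul] at h1
    rw [hzv, ← eq_mul_inv_iff_mul_eq, mon_conj_shift] at h1
    have h2 := congrFun (shift_injective h1) i
    rw [hwi] at h2
    simp [hwj] at h2
  subst hπ1
  change ((z : Alt p k e) : Perm (Pts p k e)) = shift v at hzv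
  have hv : v ∈ closedVec T := by
    have hA : Adm p k e v := by rw [Adm, ← hzv]; exact (z : Alt p k e).2
    refine ⟨hA, ?_⟩
    rw [← show (z : Alt p k e) = ⟨shift v, hA⟩ from Subtype.ext hzv]
    exact Subgroup.mem_subgroupOf.1 hzT
  have hv0 : v ≠ 0 := fun h => hz1 (Subtype.ext (Subtype.ext (by rw [hzv, h, shift_zero]; rfl)))
  have hR : ∀ u, Adm p k e u → u ∈ closedVec T := by
    intro u hu
    rcases eq_or_ne p 2 with rfl | hp2
    · obtain ⟨a, b, hab, hswap⟩ := h2 rfl
      exact closedVec_two hk hS hT hab hswap hv hv0 hu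
    · exact closedVec_odd hp2 hk hS hT hv hv0 u
  have hord : ∀ x ∈ (S : Subgroup (Alt p k e)), x ^ p = 1 → x ∈ T := by
    intro x hx hxp
    obtain ⟨u, hu, g, hg, hgx⟩ := exists_conj_shift he hk x.2 (congrArg Subtype.val hxp)
    obtain ⟨_, huT⟩ := hR u hu
    have he : (⟨g, hg⟩ : Alt p k e) * ⟨shift u, hu⟩ * (⟨g, hg⟩ : Alt p k e)⁻¹ = x :=
      Subtype.ext hgx
    rw [← he]
    exact conj_mem_of_sc hT huT (he ▸ hx)
  intro x hx
  obtain ⟨π, hπ, v, hxv⟩ : (x : Perm (Pts p k e)) ∈ wr (P : Subgroup (Perm (Fin k))) := hS.le hx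
  have hx' : (x : Perm (Pts p k e)) = shift (fun i => v (π.symm i)) * lift π := by
    rw [hxv, mon_eq, show torus (e := e) (1 : Fin k → (ZMod p)ˣ) = 1 from mon_one, mul_one]
  have hsh : Adm p k e (fun i => v (π.symm i)) := by
    have h1 : Perm.sign (x : Perm (Pts p k e)) = 1 := x.2
    rw [hx', map_mul, sign_lift_sylow hπ, mul_one] at h1
    exact h1
  set Tp := T.map (Alt p k e).subtype
  suffices h : (x : Perm (Pts p k e)) ∈ Tp by
    obtain ⟨y, hy, hyx⟩ := h
    rwa [← Subtype.ext hyx]
  rw [hx']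
  refine Tp.mul_mem ⟨_, (hR _ hsh).2, rfl⟩ ?_
  have hgen := Subgroup.mem_map_of_mem (liftHom (p := p) (k := k) (e := e)) (sylow_gen k P hπ)
  rw [MonoidHom.map_closure] at hgen
  refine (Subgroup.closure_le Tp).2 ?_ hgen
  rintro _ ⟨ρ, ⟨hρ, hρp⟩, rfl⟩
  refine ⟨⟨lift ρ, sign_lift_sylow hρ⟩, hord _ ?_ ?_, rfl⟩
  · rw [hS]
    exact ⟨ρ, hρ, 0, rfl⟩
  · exact Subtype.ext (by
      show lift (p := p) (e := e) ρ ^ p = 1
      rw [show lift (p := p) (e := e) ρ = liftHom ρ from rfl, ← map_pow, hρp, map_one])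

end

end CfsgLib.AltSimple
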