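import Mathlib
import Cfsg.Agent.Lib.Fusion.AltSimple.Closed
import Cfsg.Agent.Lib.Fusion.SimpleClimb
import Cfsg.Agent.Lib.Qd.Facts

/-!
An invariant saturated subsystem on the model Sylow subgroup is everything (`p` odd).
-/

set_option autoImplicit false

namespace CfsgLib.AltSimple

open Equiv Cfsg Cfsg.FusionSystem
open scoped MatrixGroups

variable {p k e : ℕ} [hp : Fact p.Prime]

/-- The translations, as a subgroup. -/
def shifts (p k e : ℕ) [Fact p.Prime] : Subgroup (Perm (Pts p k e)) where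
  carrier := {σ | ∃ v, σ = shift v}
  one_mem' := ⟨0, shift_zero.symm⟩
  mul_mem' := by
    rintro _ _ ⟨v, rfl⟩ ⟨w, rfl⟩
    exact ⟨v + w, shift_mul v w⟩
  inv_mem' := by
    rintro _ ⟨v, rfl⟩
    exact ⟨-v, shift_inv v⟩

theorem apply_inr_of_translates (he : e ≤ 1) (c : Perm (Pts p k e))
    (h : ∀ i x, ∃ j y, c (.inl (j, y)) = .inl (i, x)) (t : Fin e) : c (.inr t) = .inr t := by
  rcases hz : c (.inr t) with ⟨i, x⟩ | t'
  · obtain ⟨j, y, hy⟩ := h i x
    exact absurd (c.injective (hy.trans hz.symm)) Sum.inl_ne_inr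
  · rw [show t' = t from Fin.ext (by have := t.2; have := t'.2; omega)]

theorem exists_block_shift {c : Perm (Pts p k e)} (i : Fin k)
    (hc : ∀ a : ZMod p, c * shift (Pi.single i a) = shift (Pi.single i a) * c) :
    ∃ b, ∀ x, c (.inl (i, x)) = .inl (i, x + b) := by
  refine exists_trans_of_commute (fun x => (Sum.inl (i, x) : Pts p k e)) c
    (fun a => shift (Pi.single i a)) (fun a x => by simp [shift]) (fun a z hz => ?_)
    (fun x y h => congrArg Prod.snd (Sum.inl.inj h)) hc
  rcases z with ⟨j, y⟩ | t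
  · have hji : j ≠ i := fun h => hz y (by rw [h])
    simp [shift, hji]
  · rfl

theorem eq_shift_of_commute (he : e ≤ 1) {c : Perm (Pts p k e)}
    (hc : ∀ i a, c * shift (Pi.single i a) = shift (Pi.single i a) * c) : ∃ b, c = shift b := by
  choose b hb using fun i => exists_block_shift i (hc i)
  refine ⟨b, mon_ext (fun i x => ?_) fun t => ?_⟩
  · simp [shift, hb]
  · rw [apply_inr_of_translates he c (fun i x => ⟨i, x - b i, by rw [hb, sub_add_cancel]⟩) t]
    simp [shift]

theorem exists_pow_of_pow_eq_one {G : Type*} [Group G] {x : G} (h : x ^ p = 1) :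
    ∃ n : ℕ, orderOf x = p ^ n := by
  rcases (Nat.dvd_prime hp.out).1 (orderOf_dvd_of_pow_eq_one h) with h' | h'
  · exact ⟨0, by rw [h', pow_zero]⟩
  · exact ⟨1, by rw [h', pow_one]⟩

theorem mem_normalizer_subgroupOf {H : Subgroup (Perm (Pts p k e))} {g : Alt p k e}
    (h : ∀ σ ∈ H, (g : Perm (Pts p k e)) * σ * (g : Perm (Pts p k e))⁻¹ ∈ H) :
    g ∈ Subgroup.normalizer ((H.subgroupOf (Alt p k e) : Subgroup (Alt p k e)) : Set (Alt p k e)) :=
  Subgroup.mem_normalizer_fintype fun x hx => h x hx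

theorem centralizer_subgroupOf_le {H : Subgroup (Perm (Pts p k e))}
    (hA : H ≤ Alt p k e) (h : ∀ c ∈ Alt p k e, (∀ σ ∈ H, σ * c = c * σ) → c ∈ H) :
    Subgroup.centralizer ((H.subgroupOf (Alt p k e) : Subgroup (Alt p k e)) : Set (Alt p k e)) ≤
      H.subgroupOf (Alt p k e) := fun c hc =>
  h c c.2 fun σ hσ => congrArg Subtype.val (hc ⟨σ, hA hσ⟩ hσ)

/-- The plane of `p` blocks. -/
def plane (ι : ZMod p ↪ Fin k) : (Fin 2 → ZMod p) ↪ Pts p k e :=
  ⟨fun v => .inl (ι (v 0), v 1), fun v w h => by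
    have h1 := Sum.inl.inj h
    funext i
    fin_cases i
    · exact ι.injective (congrArg Prod.fst h1)
    · exact congrArg Prod.snd h1⟩

@[simp] theorem plane_apply (ι : ZMod p ↪ Fin k) (v : Fin 2 → ZMod p) :
    plane (e := e) ι v = .inl (ι (v 0), v 1) := rfl

/-- Translations of the plane. -/
noncomputable def transl (ι : ZMod p ↪ Fin k) (w : Fin 2 → ZMod p) : Perm (Pts p k e) :=
  (Equiv.addRight w).viaEmbedding (plane ι)

theorem transl_apply (ι : ZMod p ↪ Fin k) (w v : Fin 2 → ZMod p) :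
    transl (e := e) ι w (plane ι v) = plane ι (v + w) :=
  Equiv.Perm.viaEmbedding_apply _ _ v

theorem transl_fix (ι : ZMod p ↪ Fin k) (w : Fin 2 → ZMod p) {z : Pts p k e}
    (hz : z ∉ Set.range (plane (e := e) ι)) : transl ι w z = z :=
  Equiv.Perm.viaEmbedding_apply_of_notMem _ _ z hz

theorem mem_range_plane (ι : ZMod p ↪ Fin k) (y x : ZMod p) :
    (Sum.inl (ι y, x) : Pts p k e) = plane ι ![y, x] := by simp [plane_apply]

theorem notMem_range_plane (ι : ZMod p ↪ Fin k) {i : Fin k} (hi : i ∉ Set.range ι) (x : ZMod p) :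
    (Sum.inl (i, x) : Pts p k e) ∉ Set.range (plane (e := e) ι) := by
  rintro ⟨v, hv⟩
  exact hi ⟨v 0, congrArg Prod.fst (Sum.inl.inj hv)⟩

theorem inr_notMem_range_plane (ι : ZMod p ↪ Fin k) (t : Fin e) :
    (Sum.inr t : Pts p k e) ∉ Set.range (plane (e := e) ι) := by
  rintro ⟨v, hv⟩
  exact Sum.inl_ne_inr hv

theorem transl_mul (ι : ZMod p ↪ Fin k) (u w : Fin 2 → ZMod p) :
    transl (e := e) ι u * transl ι w = transl ι (u + w) := by
  rw [transl, transl, transl, ← Equiv.Perm.viaEmbeddingHom_apply, ← Equiv.Perm.viaEmbeddingHom_apply,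
    ← map_mul, Equiv.Perm.viaEmbeddingHom_apply]
  congr 1
  exact Equiv.ext fun v => by simp [add_assoc, add_comm u]

theorem transl_zero (ι : ZMod p ↪ Fin k) : transl (e := e) ι 0 = 1 := by
  rw [transl, ← Equiv.Perm.viaEmbeddingHom_apply,
    show Equiv.addRight (0 : Fin 2 → ZMod p) = 1 from Equiv.ext fun v => by simp, map_one]

theorem transl_pow (ι : ZMod p ↪ Fin k) (w : Fin 2 → ZMod p) (n : ℕ) :
    transl (e := e) ι w ^ n = transl ι (n • w) := by
  induction n with
  | zero => rw [pow_zero, zero_smul, transl_zero]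
  | succ n ih => rw [pow_succ, ih, transl_mul, succ_nsmul]

theorem transl_pow_p (ι : ZMod p ↪ Fin k) (w : Fin 2 → ZMod p) :
    transl (e := e) ι w ^ p = 1 := by
  rw [transl_pow, show p • w = 0 from funext fun i => by simp, transl_zero]

/-- The linear action on the plane. -/
noncomputable def planeHom (ι : ZMod p ↪ Fin k) : SL(2, ZMod p) →* Perm (Pts p k e) :=
  (Equiv.Perm.viaEmbeddingHom (plane ι)).comp (MonoidHom.mk'
    (fun M =>
      { toFun := fun v => (M : Matrix (Fin 2) (Fin 2) (ZMod p)).mulVec v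
        invFun := fun v => ((M⁻¹ : SL(2, ZMod p)) : Matrix (Fin 2) (Fin 2) (ZMod p)).mulVec v
        left_inv := fun v => by
          show (M⁻¹ : SL(2, ZMod p)).1.mulVec (M.1.mulVec v) = v
          rw [Matrix.mulVec_mulVec, ← Matrix.SpecialLinearGroup.coe_mul, inv_mul_cancel]
          simp
        right_inv := fun v => by
          show M.1.mulVec ((M⁻¹ : SL(2, ZMod p)).1.mulVec v) = v
          rw [Matrix.mulVec_mulVec, ← Matrix.SpecialLinearGroup.coe_mul, mul_inv_cancel]
          simp })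
    fun M N => Equiv.ext fun v => by
      show (M * N : SL(2, ZMod p)).1.mulVec v = M.1.mulVec (N.1.mulVec v)
      rw [Matrix.mulVec_mulVec, Matrix.SpecialLinearGroup.coe_mul])

theorem planeHom_apply (ι : ZMod p ↪ Fin k) (M : SL(2, ZMod p)) (v : Fin 2 → ZMod p) :
    planeHom (e := e) ι M (plane ι v) = plane ι (M.1.mulVec v) :=
  Equiv.Perm.viaEmbedding_apply _ _ v

theorem planeHom_fix (ι : ZMod p ↪ Fin k) (M : SL(2, ZMod p)) {z : Pts p k e}
    (hz : z ∉ Set.range (plane (e := e) ι)) : planeHom ι M z = z :=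
  Equiv.Perm.viaEmbedding_apply_of_notMem _ _ z hz

theorem planeHom_transl (ι : ZMod p ↪ Fin k) (M : SL(2, ZMod p)) (w : Fin 2 → ZMod p) :
    planeHom (e := e) ι M * transl ι w * (planeHom ι M)⁻¹ = transl ι (M.1.mulVec w) := by
  rw [mul_inv_eq_iff_eq_mul]
  refine Equiv.ext fun z => ?_
  simp only [Perm.mul_apply]
  by_cases hz : z ∈ Set.range (plane (e := e) ι)
  · obtain ⟨v, rfl⟩ := hz
    rw [transl_apply, planeHom_apply, planeHom_apply, transl_apply, Matrix.mulVec_add]
  · rw [transl_fix ι w hz, planeHom_fix ι M hz, transl_fix ι _ hz]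

/-- Translations of the plane and of the blocks outside it. -/
noncomputable def planeGroup (ι : ZMod p ↪ Fin k) : Subgroup (Perm (Pts p k e)) :=
  Subgroup.closure (Set.range (transl ι) ∪
    {σ | ∃ i ∉ Set.range ι, ∃ a : ZMod p, σ = shift (Pi.single i a)})

theorem planeGroup_le_alt (hp2 : p ≠ 2) (ι : ZMod p ↪ Fin k) : planeGroup ι ≤ Alt p k e := by
  refine (Subgroup.closure_le _).2 ?_
  rintro σ (⟨w, rfl⟩ | ⟨i, -, a, rfl⟩)
  · exact sign_eq_one_of_pow_eq_one hp2 (transl_pow_p ι w)
  · exact sign_eq_one_of_pow_eq_one hp2 (shift_pow_p _)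

theorem centralizer_planeGroup (he : e ≤ 1) (ι : ZMod p ↪ Fin k) {c : Perm (Pts p k e)}
    (hc : ∀ σ ∈ planeGroup ι, σ * c = c * σ) : c ∈ planeGroup ι := by
  classical
  obtain ⟨b, hb⟩ := exists_trans_of_commute (plane (e := e) ι) c (transl ι)
    (fun a x => transl_apply ι a x) (fun a z hz => transl_fix ι a fun ⟨x, hx⟩ => hz x hx)
    (plane ι).injective fun a => (hc _ (Subgroup.subset_closure (Or.inl ⟨a, rfl⟩))).symm
  have hout : ∀ i : {i // i ∉ Set.range ι}, ∃ d, ∀ x, c (.inl ((i : Fin k), x)) = .inl (↑i, x + d) :=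
    fun i => exists_block_shift _ fun a =>
      (hc _ (Subgroup.subset_closure (Or.inr ⟨i, i.2, a, rfl⟩))).symm
  choose d hd using hout
  set u : Fin k → ZMod p := fun i => if h : i ∉ Set.range ι then d ⟨i, h⟩ else 0
  have hu : shift (e := e) u ∈ planeGroup ι := by
    have hsum : ∀ s : Finset (Fin k), shift (e := e) (∑ i ∈ s, Pi.single i (u i)) ∈ planeGroup ι := by
      intro s
      induction s using Finset.induction_on with
      | empty => rw [Finset.sum_empty, shift_zero]; exact Subgroup.one_mem _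
      | @insert i s hi ih =>
        rw [Finset.sum_insert hi, ← shift_mul]
        refine Subgroup.mul_mem _ ?_ ih
        by_cases h : i ∈ Set.range ι
        · rw [show u i = 0 from dif_neg (by simp [h]), Pi.single_zero, shift_zero]
          exact Subgroup.one_mem _
        · exact Subgroup.subset_closure (Or.inr ⟨i, h, _, rfl⟩)
    simpa [Finset.univ_sum_single] using hsum Finset.univ
  suffices h : c = transl ι b * shift u from
    h ▸ Subgroup.mul_mem _ (Subgroup.subset_closure (Or.inl ⟨b, rfl⟩)) hu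
  refine mon_ext (fun i x => ?_) fun t => ?_
  · rw [Perm.mul_apply]
    by_cases hi : i ∈ Set.range ι
    · obtain ⟨y, rfl⟩ := hi
      rw [show shift (e := e) u (.inl (ι y, x)) = .inl (ι y, x) by simp [shift, u],
        mem_range_plane, hb, transl_apply]
    · have hu' : u i = d ⟨i, hi⟩ := dif_pos hi
      rw [show shift (e := e) u (.inl (i, x)) = .inl (i, x + d ⟨i, hi⟩) by
          simp [shift, hu'], transl_fix ι _ (notMem_range_plane ι hi _)]
      exact hd ⟨i, hi⟩ x
  · rw [Perm.mul_apply, show shift (e := e) u (.inr t) = .inr t from rfl,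
      transl_fix ι _ (inr_notMem_range_plane ι t)]
    refine apply_inr_of_translates he c (fun i x => ?_) t
    by_cases hi : i ∈ Set.range ι
    · obtain ⟨y, rfl⟩ := hi
      refine ⟨ι ((![y, x] - b) 0), (![y, x] - b) 1, ?_⟩
      rw [mem_range_plane ι y x]
      have := hb (![y, x] - b)
      rw [sub_add_cancel] at this
      exact this
    · exact ⟨i, x - d ⟨i, hi⟩, by rw [hd ⟨i, hi⟩, sub_add_cancel]⟩

theorem transl_zero_one (ι : ZMod p ↪ Fin k) :
    transl (e := e) ι ![1, 0] =
      lift (Equiv.Perm.viaEmbedding (Equiv.addRight (1 : ZMod p)) ι) := by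
  refine mon_ext (fun i x => ?_) fun t => transl_fix ι _ (inr_notMem_range_plane ι t)
  by_cases hi : i ∈ Set.range ι
  · obtain ⟨y, rfl⟩ := hi
    rw [mem_range_plane, transl_apply]
    simp [lift, plane_apply, Equiv.Perm.viaEmbedding_apply]
  · rw [transl_fix ι _ (notMem_range_plane ι hi _)]
    simp [lift, Equiv.Perm.viaEmbedding_apply_of_notMem _ _ _ hi]

theorem transl_snd (ι : ZMod p ↪ Fin k) (a : ZMod p) :
    ∃ v, transl (e := e) ι ![0, a] = shift v := by
  classical
  refine ⟨fun i => if i ∈ Set.range ι then a else 0, mon_ext (fun i x => ?_) fun t => ?_⟩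
  · by_cases hi : i ∈ Set.range ι
    · obtain ⟨y, rfl⟩ := hi
      rw [mem_range_plane, transl_apply]
      simp [shift, plane_apply]
    · rw [transl_fix ι _ (notMem_range_plane ι hi _)]
      simp only [shift, mon_inl, if_neg hi]
      simp
  · rw [transl_fix ι _ (inr_notMem_range_plane ι t)]
    simp [shift]

/-- Translations and the cycle of the blocks. -/
noncomputable def climbGroup (ι : ZMod p ↪ Fin k) : Subgroup (Perm (Pts p k e)) :=
  shifts p k e ⊔ Subgroup.zpowers (transl ι ![1, 0])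

theorem transl_mem_climb (ι : ZMod p ↪ Fin k) (w : Fin 2 → ZMod p) :
    transl (e := e) ι w ∈ climbGroup ι := by
  have h1 : transl (e := e) ι w = transl ι ![1, 0] ^ (w 0).val * transl ι ![0, w 1] := by
    rw [transl_pow, transl_mul]
    congr 1
    funext i
    fin_cases i <;> simp
  obtain ⟨v, hv⟩ := transl_snd (e := e) ι (w 1)
  rw [h1, hv]
  exact Subgroup.mul_mem _ (Subgroup.pow_mem _ (Subgroup.mem_sup_right (Subgroup.mem_zpowers _)) _)
    (Subgroup.mem_sup_left ⟨v, rfl⟩)

theorem planeGroup_le_climb (ι : ZMod p ↪ Fin k) : planeGroup (e := e) ι ≤ climbGroup ι := by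
  refine (Subgroup.closure_le _).2 ?_
  rintro σ (⟨w, rfl⟩ | ⟨i, -, a, rfl⟩)
  · exact transl_mem_climb ι w
  · exact Subgroup.mem_sup_left ⟨_, rfl⟩

/-- The diagonal element with multipliers `l`, `l⁻¹`. -/
def diag (l : (ZMod p)ˣ) : SL(2, ZMod p) :=
  ⟨!![(l : ZMod p), 0; 0, ((l⁻¹ : (ZMod p)ˣ) : ZMod p)], by
    rw [Matrix.det_fin_two_of, zero_mul, sub_zero, Units.mul_inv]⟩

open scoped Classical in
theorem planeHom_diag (ι : ZMod p ↪ Fin k) (l : (ZMod p)ˣ) :
    planeHom (e := e) ι (diag l) = mon (Equiv.Perm.viaEmbedding (scaleHom p l) ι)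
      (fun i => if i ∈ Set.range ι then l⁻¹ else 1) 0 := by
  refine mon_ext (fun i x => ?_) fun t => planeHom_fix ι _ (inr_notMem_range_plane ι t)
  by_cases hi : i ∈ Set.range ι
  · obtain ⟨y, rfl⟩ := hi
    have hdiag : ∀ a b : ZMod p, (!![a, 0; 0, b]).mulVec ![y, x] = ![a * y, b * x] := by
      intro a b
      ext j; fin_cases j <;> simp [mul_comm]
    rw [mem_range_plane, planeHom_apply,
      show (diag l).1.mulVec ![y, x] = ![(l : ZMod p) * y, ((l⁻¹ : (ZMod p)ˣ) : ZMod p) * x] from
        hdiag _ _]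
    simp only [plane_apply, mon_inl, Matrix.cons_val_zero, Matrix.cons_val_one,
      if_pos (Set.mem_range_self y), Equiv.Perm.viaEmbedding_apply, Pi.zero_apply, add_zero]
    rfl
  · rw [planeHom_fix ι _ (notMem_range_plane ι hi _)]
    simp only [mon_inl, if_neg hi, Equiv.Perm.viaEmbedding_apply_of_notMem _ _ _ hi]
    simp

open scoped Classical in
theorem prod_indicator (ι : ZMod p ↪ Fin k) (m : (ZMod p)ˣ) :
    (∏ i : Fin k, if i ∈ Set.range ι then m else 1) = m := by
  rw [Finset.prod_ite, Finset.prod_const, Finset.prod_const_one, mul_one]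
  have hc : (Finset.univ.filter fun i => i ∈ Set.range ι).card = p := by
    rw [show (Finset.univ.filter fun i => i ∈ Set.range ι) = Finset.univ.map ι by ext; simp,
      Finset.card_map, Finset.card_univ, ZMod.card]
  rw [hc]
  exact Units.ext (by rw [Units.val_pow_eq_pow_val, ZMod.pow_card])

variable {P : Sylow p (Perm (Fin k))} {S : Sylow p (Alt p k e)}

theorem wr_subgroupOf_mem
    (hS : (S : Subgroup (Alt p k e)) = (wr (P : Subgroup (Perm (Fin k)))).subgroupOf _)
    {H : Subgroup (Perm (Pts p k e))} (h : H ≤ wr (P : Subgroup (Perm (Fin k)))) :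
    H.subgroupOf (Alt p k e) ≤ (S : Subgroup (Alt p k e)) := by
  rw [hS]
  exact Subgroup.comap_mono h

theorem shifts_le_wr : shifts p k e ≤ wr (P : Subgroup (Perm (Fin k))) := by
  rintro _ ⟨v, rfl⟩
  exact ⟨1, Subgroup.one_mem _, v, rfl⟩

/-- The main statement of this file. -/
theorem isMap_conj_of_normalizer (hp2 : p ≠ 2) (hpk : p ≤ k) (he : e ≤ 1) (ι : ZMod p ↪ Fin k)
    (hcP : Equiv.Perm.viaEmbedding (Equiv.addRight (1 : ZMod p)) ι ∈ (P : Subgroup (Perm (Fin k))))
    (hS : (S : Subgroup (Alt p k e)) = (wr (P : Subgroup (Perm (Fin k)))).subgroupOf _)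
    {E : FusionSystem (S : Subgroup (Alt p k e))} (hsat : E.IsSaturated p)
    (hinv : E.IsInvariantIn (groupFusionSystem (S : Subgroup (Alt p k e))))
    {g : Alt p k e} (hg : g ∈ Subgroup.normalizer ((S : Subgroup (Alt p k e)) : Set (Alt p k e))) :
    Fusion.IsMap E (S : Subgroup (Alt p k e)) (fun x => g * x * g⁻¹) := by
  classical
  have hp3 : 3 ≤ p := by have := hp.out.two_le; omega
  set c := Equiv.Perm.viaEmbedding (Equiv.addRight (1 : ZMod p)) ι
  set R₁ := (shifts p k e).subgroupOf (Alt p k e)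
  have hR₁ : R₁ ≤ (S : Subgroup (Alt p k e)) := wr_subgroupOf_mem hS shifts_le_wr
  have hR₁A : shifts p k e ≤ Alt p k e := by
    rintro _ ⟨v, rfl⟩; exact adm_of_odd hp2 v
  have hR₁c : (groupFusionSystem (S : Subgroup (Alt p k e))).IsCentric R₁ :=
    Fusion.isCentric_group_of_centralizer_le hR₁ (centralizer_subgroupOf_le hR₁A fun d _ hd => by
      obtain ⟨b, hb⟩ := eq_shift_of_commute he fun i a => (hd _ ⟨Pi.single i a, rfl⟩).symm
      exact ⟨b, hb⟩)
  set M := (Fusion.mapGroup E R₁).map (Alt p k e).subtype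
  have hmonN : ∀ (π : Perm (Fin k)) a v, ∀ σ ∈ shifts p k e,
      mon (e := e) π a v * σ * (mon π a v)⁻¹ ∈ shifts p k e := by
    rintro π a v _ ⟨w, rfl⟩
    exact ⟨_, mon_conj_shift π a v w⟩
  have hpel : ∀ y : Perm (Pts p k e), y ^ p = 1 →
      (∀ σ ∈ shifts p k e, y * σ * y⁻¹ ∈ shifts p k e) → y ∈ M := by
    intro y hy hn
    obtain ⟨n, hn'⟩ := exists_pow_of_pow_eq_one hy
    refine ⟨⟨y, sign_eq_one_of_pow_eq_one hp2 hy⟩, Fusion.mem_mapGroup_of_pElement hinv hR₁
      (mem_normalizer_subgroupOf hn) ⟨n, ?_⟩, rfl⟩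
    rw [← Subgroup.orderOf_coe]; exact hn'
  have hshift : ∀ v, shift (e := e) v ∈ M := fun v =>
    hpel _ (shift_pow_p v) fun σ hσ => hmonN 1 1 v σ hσ
  -- conjugates of even permutations of the blocks
  have hc : c ^ p = 1 := by
    rw [show c = Equiv.Perm.viaEmbeddingHom ι (Equiv.addRight 1) from rfl, ← map_pow,
      show Equiv.addRight (1 : ZMod p) = transHom p (Multiplicative.ofAdd 1) from rfl, ← map_pow,
      ← ofAdd_nsmul, nsmul_eq_mul, ZMod.natCast_self, zero_mul, ofAdd_zero, map_one, map_one]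
  have hA : ∀ (a : Fin k → (ZMod p)ˣ) (π : Perm (Fin k)), Perm.sign π = 1 →
      torus a * lift π * (torus a)⁻¹ ∈ M := by
    intro a
    let φ : Perm (Fin k) →* Perm (Pts p k e) :=
      (MulAut.conj (torus a)).toMonoidHom.comp liftHom
    have hK : ∀ σ : Perm (Fin k), σ * c * σ⁻¹ ∈ M.comap φ := fun σ => by
      refine hpel _ ?_ ?_
      · rw [← map_pow, conj_pow, hc]
        simp
      · intro τ hτ
        have h1 : φ (σ * c * σ⁻¹) =
            torus a * lift (σ * c * σ⁻¹) * (torus (e := e) a)⁻¹ := rfl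
        rw [h1]
        have hinvn : ∀ τ ∈ shifts p k e, (torus (e := e) a)⁻¹ * τ * torus a ∈ shifts p k e := by
          rintro _ ⟨w, rfl⟩
          have : shift (e := e) w = torus a * shift (fun i => (((a i)⁻¹ : (ZMod p)ˣ) : ZMod p) * w i) *
              (torus a)⁻¹ := by
            rw [torus, mon_conj_shift]
            congr 1
            funext i
            simp only [Perm.one_def, Equiv.refl_symm, Equiv.refl_apply]
            rw [← mul_assoc, ← Units.val_mul, mul_inv_cancel, Units.val_one, one_mul]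
          rw [this, show ∀ x y : Perm (Pts p k e), x⁻¹ * (x * y * x⁻¹) * x = y from
            fun x y => by group]
          exact ⟨_, rfl⟩
        rw [show torus a * lift (σ * c * σ⁻¹) * (torus (e := e) a)⁻¹ * τ *
            (torus a * lift (σ * c * σ⁻¹) * (torus a)⁻¹)⁻¹ = torus a *
            (lift (σ * c * σ⁻¹) * ((torus a)⁻¹ * τ * torus a) * (lift (σ * c * σ⁻¹))⁻¹) *
            (torus a)⁻¹ by group]
        exact hmonN _ _ _ _ (hmonN _ _ _ _ (hinvn τ hτ))
    set i₀ := ι 0
    set i₁ := ι 1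
    set i₂ := ι (1 + 1)
    have h01 : i₀ ≠ i₁ := fun h => zero_ne_one (ι.injective h)
    have h12 : i₁ ≠ i₂ := fun h => by simpa using ι.injective h
    have h02 : i₀ ≠ i₂ := fun h => by
      have h2 : ((2 : ℕ) : ZMod p) = 0 := by
        rw [Nat.cast_ofNat, ← one_add_one_eq_two]; exact (ι.injective h).symm
      rw [ZMod.natCast_eq_zero_iff] at h2
      exact hp2 ((Nat.prime_dvd_prime_iff_eq hp.out Nat.prime_two).1 h2)
    have h3 : ∀ σ : Perm (Fin k), σ * (swap i₁ i₂ * swap i₁ i₀) * σ⁻¹ ∈ M.comap φ := by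
      intro σ
      have hsc : c * swap i₀ i₁ * c⁻¹ = swap i₁ i₂ := by
        rw [← Equiv.swap_apply_apply]
        congr 1 <;> simp [c, i₀, i₁, i₂, Equiv.Perm.viaEmbedding_apply]
      have := Subgroup.mul_mem _ (hK σ)
        (Subgroup.inv_mem _ (hK (σ * swap i₀ i₁)))
      convert this using 1
      rw [mul_inv_rev, mul_inv_rev, mul_inv_rev, inv_inv, ← hsc, swap_comm i₁ i₀]
      simp only [mul_inv_rev, swap_inv, mul_assoc, inv_mul_cancel_left]
    intro π hπ
    have hle : (alternatingGroup (Fin k)) ≤ M.comap φ := by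
      rw [← Perm.closure_three_cycles_eq_alternating, Subgroup.closure_le]
      intro τ hτ
      have h123 : Perm.IsThreeCycle (swap i₁ i₂ * swap i₁ i₀) :=
        Perm.isThreeCycle_swap_mul_swap_same h12 h01.symm h02.symm
      obtain ⟨σ, rfl⟩ := isConj_iff.1
        (Perm.isConj_of_cycleType_eq (h123.trans hτ.symm))
      exact h3 σ
    exact hle hπ
  have hlift : ∀ π : Perm (Fin k), Perm.sign π = 1 → lift π ∈ M := fun π hπ => by
    simpa [show torus (p := p) (e := e) (1 : Fin k → (ZMod p)ˣ) = 1 from mon_one] using hA 1 π hπ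
  let tHom : (Fin k → (ZMod p)ˣ) →* Perm (Pts p k e) :=
    MonoidHom.mk' torus fun a b => by
      rw [torus, torus, torus, mon_mul]
      congr 1 <;> funext i <;> simp
  have htorus : ∀ a : Fin k → (ZMod p)ˣ, ∏ i, a i = 1 → torus a ∈ M := by
    intro a ha
    set i₀ := ι 0
    have hpair : ∀ n l, Pi.mulSingle n l * (Pi.mulSingle i₀ l)⁻¹ ∈ M.comap tHom := by
      intro n l
      rcases eq_or_ne n i₀ with rfl | hn
      · rw [mul_inv_cancel]; exact Subgroup.one_mem _
      obtain ⟨q, hqn, hqi⟩ := exists_third (k := k) (by omega) n i₀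
      set π : Perm (Fin k) := swap n i₀ * swap i₀ q
      have hπ : Perm.sign π = 1 := by
        rw [map_mul, Perm.sign_swap hn, Perm.sign_swap hqi.symm]; decide
      have hπn : π n = i₀ := by
        rw [Perm.mul_apply, swap_apply_of_ne_of_ne hn hqn.symm, swap_apply_left]
      have h1 := Subgroup.mul_mem _ (hA (Pi.mulSingle n l) π hπ) (Subgroup.inv_mem _ (hlift π hπ))
      show torus _ ∈ M
      convert h1 using 1
      rw [eq_mul_inv_iff_mul_eq, eq_mul_inv_iff_mul_eq]
      rw [lift, torus, torus, mon_mul, mon_mul, mon_mul]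
      congr 1
      · funext i
        simp only [Pi.one_apply, mul_one, one_mul, Perm.coe_one, id_eq, Pi.mul_apply, Pi.inv_apply]
        rw [Pi.mulSingle_apply, Pi.mulSingle_apply, Pi.mulSingle_apply]
        by_cases hi : i = n
        · subst hi
          simp [hπn, hn, hn.symm]
        · have : π i ≠ i₀ := fun h => hi (π.injective (h.trans hπn.symm))
          by_cases hi' : π i = n <;> simp [hi, hi', this, hn]
      · funext i; simp only [Pi.zero_apply, mul_zero, add_zero]
    have hdec : a = ∏ n, Pi.mulSingle n (a n) * (Pi.mulSingle i₀ (a n))⁻¹ := by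
      rw [Finset.prod_mul_distrib, Finset.univ_prod_mulSingle, Finset.prod_inv_distrib]
      have : (∏ n, Pi.mulSingle i₀ (a n)) = (1 : Fin k → (ZMod p)ˣ) := by
        rw [← Pi.mulSingle_one i₀, ← ha]
        exact (map_prod (MonoidHom.mulSingle (fun _ : Fin k => (ZMod p)ˣ) i₀) _ _).symm
      rw [this, inv_one, mul_one]
    show tHom a ∈ M
    rw [hdec, ← Subgroup.mem_comap]
    exact Subgroup.prod_mem _ fun n _ => hpair n _
  -- the torus of the plane
  set R₂ := (planeGroup (e := e) ι).subgroupOf (Alt p k e)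
  set U := (climbGroup (e := e) ι).subgroupOf (Alt p k e)
  have hcl : climbGroup (e := e) ι ≤ wr (P : Subgroup (Perm (Fin k))) := by
    refine sup_le shifts_le_wr (Subgroup.zpowers_le.2 ?_)
    rw [transl_zero_one]
    exact ⟨_, hcP, 0, rfl⟩
  have hU : U ≤ (S : Subgroup (Alt p k e)) := wr_subgroupOf_mem hS hcl
  have hR₂U : R₂ ≤ U := Subgroup.comap_mono (planeGroup_le_climb ι)
  have hR₂c : (groupFusionSystem (S : Subgroup (Alt p k e))).IsCentric R₂ :=
    Fusion.isCentric_group_of_centralizer_le (hR₂U.trans hU)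
      (centralizer_subgroupOf_le (planeGroup_le_alt hp2 ι) fun d _ hd => centralizer_planeGroup he ι hd)
  have hplane : ∀ (X : SL(2, ZMod p)), ∀ σ ∈ planeGroup (e := e) ι,
      planeHom ι X * σ * (planeHom ι X)⁻¹ ∈ planeGroup ι := by
    intro X σ hσ
    have hle : planeGroup (e := e) ι ≤
        (planeGroup ι).comap (MulAut.conj (planeHom ι X)).toMonoidHom := by
      refine (Subgroup.closure_le _).2 ?_
      rintro τ (⟨w, rfl⟩ | ⟨i, hi, a, rfl⟩)
      · exact Subgroup.subset_closure (Or.inl ⟨_, (planeHom_transl ι X w).symm⟩)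
      · refine Subgroup.subset_closure (Or.inr ⟨i, hi, a, ?_⟩)
        show planeHom ι X * _ * (planeHom ι X)⁻¹ = _
        rw [mul_inv_eq_iff_eq_mul]
        refine Equiv.ext fun z => ?_
        simp only [Perm.mul_apply]
        by_cases hz : z ∈ Set.range (plane (e := e) ι)
        · obtain ⟨v, rfl⟩ := hz
          rw [planeHom_apply]
          have hne : ∀ v : Fin 2 → ZMod p, shift (e := e) (Pi.single i a) (plane ι v) = plane ι v := by
            intro v
            have : ι (v 0) ≠ i := fun h => hi ⟨_, h⟩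
            simp [shift, plane_apply, this]
          rw [hne, hne, planeHom_apply]
        · rw [planeHom_fix ι X hz, planeHom_fix ι X ?_]
          rintro ⟨v, hv⟩
          apply hz
          rcases z with ⟨j, x⟩ | t
          · simp [shift, plane_apply] at hv
            exact ⟨![v 0, x], by simp [plane_apply, hv.1]⟩
          · exact absurd hv Sum.inl_ne_inr
    exact hle hσ
  set M₂ := (Fusion.mapGroup E R₂).map (Alt p k e).subtype
  have hall : ∀ X : SL(2, ZMod p), planeHom ι X ∈ M₂ := by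
    intro X
    have hgen : ∀ Y : SL(2, ZMod p), Y ^ p = 1 → planeHom ι Y ∈ M₂ := fun Y hY => by
      have hy : planeHom (e := e) ι Y ^ p = 1 := by rw [← map_pow, hY, map_one]
      obtain ⟨n, hn'⟩ := exists_pow_of_pow_eq_one hy
      refine ⟨⟨_, sign_eq_one_of_pow_eq_one hp2 hy⟩, Fusion.mem_mapGroup_of_pElement hinv
        (hR₂U.trans hU) (mem_normalizer_subgroupOf (hplane Y)) ⟨n, ?_⟩, rfl⟩
      rw [← Subgroup.orderOf_coe]; exact hn'
    have htop := CfsgLib.Qd.eq_top_of_up_lo (p := p) (K := M₂.comap (planeHom ι))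
      (hgen _ (by
        show SL2.upperHom (Multiplicative.ofAdd 1) ^ p = 1
        rw [← map_pow, ← ofAdd_nsmul, nsmul_eq_mul, ZMod.natCast_self, zero_mul, ofAdd_zero, map_one]))
      (hgen _ (by
        have h : ∀ n : ℕ, SL2.lo (1 : ZMod p) ^ n = SL2.lo (n : ZMod p) := by
          intro n
          induction n with
          | zero => simp [SL2.lo]
          | succ n ih =>
            rw [pow_succ, ih, Nat.cast_succ, SL2.lo, SL2.lo, SL2.lo,
              Matrix.SpecialLinearGroup.transvection_add]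
        rw [h, ZMod.natCast_self]; simp [SL2.lo]))
    exact (htop ▸ Subgroup.mem_top X : X ∈ M₂.comap (planeHom ι))
  have ht : ∀ l : (ZMod p)ˣ, planeHom ι (diag l) ∈ M := by
    intro l
    obtain ⟨t, ht, htv⟩ := hall (diag l)
    rw [← htv]
    have htv' : (t : Perm (Pts p k e)) = planeHom ι (diag l) := htv
    refine ⟨t, ?_, rfl⟩
    obtain ⟨htn, htm⟩ := (Fusion.mem_mapGroup_iff (hR₂U.trans hU)).1 ht
    have hcn : ∀ σ ∈ climbGroup (e := e) ι,
        (t : Perm (Pts p k e)) * σ * (t : Perm (Pts p k e))⁻¹ ∈ climbGroup ι := by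
      intro σ hσ
      have hle : climbGroup (e := e) ι ≤
          (climbGroup ι).comap (MulAut.conj (t : Perm (Pts p k e))).toMonoidHom := by
        refine sup_le (fun τ hτ => ?_) (Subgroup.zpowers_le.2 ?_)
        · refine Subgroup.mem_sup_left ?_
          show (t : Perm (Pts p k e)) * τ * (t : Perm (Pts p k e))⁻¹ ∈ _
          rw [htv', planeHom_diag]
          exact hmonN _ _ _ τ hτ
        · rw [Subgroup.mem_comap]
          show (t : Perm (Pts p k e)) * transl ι ![1, 0] * (t : Perm (Pts p k e))⁻¹ ∈ _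
          rw [htv', planeHom_transl]
          exact transl_mem_climb ι _
      exact hle hσ
    have hmap := Fusion.isMap_conj_climb hsat hinv.1 hU (mem_normalizer_subgroupOf hcn) hR₂U hR₂c
      htn htm
    refine (Fusion.mem_mapGroup_iff hR₁).2 ⟨mem_normalizer_subgroupOf fun τ hτ => ?_,
      hmap.mono (Subgroup.comap_mono le_sup_left)⟩
    rw [htv', planeHom_diag]
    exact hmonN _ _ _ τ hτ
  -- the element `g`
  set G₀ : Perm (Pts p k e) := (g : Perm (Pts p k e))
  have hpc : ∀ i : Fin k, ∃ (j : Fin k) (u : (ZMod p)ˣ),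
      G₀ * shift (Pi.single i 1) * G₀⁻¹ = shift (Pi.single j (u : ZMod p)) := by
    intro i
    have hmem := Fusion.conj_mem_of_mem_normalizer hg
      (show (⟨shift (Pi.single i 1), adm_of_odd hp2 _⟩ : Alt p k e) ∈ (S : Subgroup (Alt p k e)) from
        shift_mem hS _)
    rw [hS] at hmem
    obtain ⟨π, -, v, hv⟩ := hmem
    change G₀ * shift (Pi.single i 1) * G₀⁻¹ = mon π 1 v at hv
    have hsupp : ∀ (w : Fin k → ZMod p), (shift (e := e) w).support =
        ((Finset.univ.filter fun n => w n ≠ 0) ×ˢ (Finset.univ : Finset (ZMod p))).map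
          ⟨Sum.inl, Sum.inl_injective⟩ := by
      intro w
      ext z
      rcases z with ⟨n, y⟩ | t
      · simp [shift]
      · simp [shift]
    have hcard : (mon (e := e) π 1 v).support.card = p := by
      rw [← hv, Perm.card_support_conj, hsupp, Finset.card_map, Finset.card_product,
        Finset.card_univ, ZMod.card,
        show (Finset.univ.filter fun n => (Pi.single i (1 : ZMod p) : Fin k → ZMod p) n ≠ 0) = {i} by
          ext n; simp [Pi.single_apply], Finset.card_singleton, one_mul]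
    have hπ : π = 1 := by
      by_contra hπ
      have h2 : 2 ≤ π.support.card := Perm.two_le_card_support_of_ne_one hπ
      have hsub : (π.support ×ˢ (Finset.univ : Finset (ZMod p))).map
          ⟨Sum.inl, Sum.inl_injective⟩ ⊆ (mon (e := e) π 1 v).support := by
        intro z hz
        simp only [Finset.mem_map, Finset.mem_product, Perm.mem_support, Function.Embedding.coeFn_mk,
          Prod.exists] at hz
        obtain ⟨n, y, ⟨hn, -⟩, rfl⟩ := hz
        rw [Perm.mem_support, mon_inl]
        exact fun h => hn (congrArg Prod.fst (Sum.inl.inj h))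
      have h3 := Finset.card_le_card hsub
      rw [Finset.card_map, Finset.card_product, Finset.card_univ, ZMod.card, hcard] at h3
      have := Nat.mul_le_mul_right p h2
      omega
    subst hπ
    rw [show mon (e := e) (1 : Perm (Fin k)) 1 v = shift v from rfl, hsupp, Finset.card_map,
      Finset.card_product, Finset.card_univ, ZMod.card] at hcard
    obtain ⟨j, hj⟩ := Finset.card_eq_one.1
      (Nat.eq_of_mul_eq_mul_right hp.out.pos (hcard.trans (one_mul p).symm))
    have hjv : v j ≠ 0 := by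
      have := hj.ge (Finset.mem_singleton_self j)
      simpa using this
    refine ⟨j, Units.mk0 _ hjv, hv.trans (congrArg shift (funext fun n => ?_))⟩
    by_cases hn : n = j
    · subst hn; simp
    · have : n ∉ (Finset.univ.filter fun n => v n ≠ 0) := by rw [hj]; simp [hn]
      simpa [hn] using this
  choose f u hfu using hpc
  have hscale : ∀ (i : Fin k) (a : ZMod p),
      G₀ * shift (Pi.single i a) * G₀⁻¹ = shift (Pi.single (f i) (a * (u i : ZMod p))) := by
    intro i a
    have h1 : ∀ (n : Fin k) (b : ZMod p),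
        shift (e := e) (Pi.single n b) ^ a.val = shift (Pi.single n (a * b)) := fun n b => by
      rw [shift_pow, ← Pi.single_smul, nsmul_eq_mul, ZMod.natCast_zmod_val]
    have h2 := h1 i 1
    rw [mul_one] at h2
    rw [← h2, ← conj_pow, hfu i, h1]
  have hf : Function.Injective f := by
    intro i l h
    have h1 := hscale l ((u i : ZMod p) * ((u l)⁻¹ : (ZMod p)ˣ))
    have e : (u i : ZMod p) * ((u l)⁻¹ : (ZMod p)ˣ) * u l = u i := by
      rw [mul_assoc, Units.inv_mul, mul_one]
    rw [e, ← h, ← hfu i] at h1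
    have h2 := congrFun (shift_injective (mul_left_cancel (mul_right_cancel h1))) i
    by_contra hne
    rw [Pi.single_eq_same, Pi.single_eq_of_ne hne] at h2
    exact zero_ne_one h2
  set π := Equiv.ofBijective f (Finite.injective_iff_bijective.1 hf)
  obtain ⟨b, hb⟩ := eq_shift_of_commute he (c := (mon π u 0)⁻¹ * G₀) fun i a => by
    have h1 : mon π u 0 * shift (Pi.single i a) * (mon π u 0)⁻¹ =
        G₀ * shift (Pi.single i a) * G₀⁻¹ := by
      rw [mon_conj_shift, hscale]
      congr 1
      funext n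
      by_cases hn : n = f i
      · subst hn
        rw [show π.symm (f i) = i from π.symm_apply_apply i]
        simp [mul_comm]
      · have : π.symm n ≠ i := fun h => hn (((Equiv.symm_apply_eq _).1 h).trans rfl)
        simp [hn, this]
    calc (mon π u 0)⁻¹ * G₀ * shift (Pi.single i a)
        = (mon π u 0)⁻¹ * (G₀ * shift (Pi.single i a) * G₀⁻¹) * G₀ := by group
      _ = shift (Pi.single i a) * ((mon π u 0)⁻¹ * G₀) := by rw [← h1]; group
  have hG₀ : G₀ = mon π u 0 * shift b := by rw [← hb, mul_inv_cancel_left]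
  set l := ∏ i, u i
  set π₁ := Equiv.Perm.viaEmbedding (scaleHom p l) ι
  set a' : Fin k → (ZMod p)ˣ := fun i => u (π₁ i) * (if i ∈ Set.range ι then l⁻¹ else 1)
  have hprod : mon (e := e) π u 0 * planeHom ι (diag l) = mon (π * π₁) a' 0 := by
    rw [planeHom_diag, mon_mul]
    congr 1
    funext i
    simp
  have ha' : ∏ i, a' i = 1 := by
    rw [Finset.prod_mul_distrib, Equiv.prod_comp π₁ u, prod_indicator, mul_inv_cancel]
  have htA : Perm.sign (planeHom (e := e) ι (diag l)) = 1 := by
    obtain ⟨x, -, hx⟩ := ht l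
    exact hx ▸ x.2
  have hπs : Perm.sign (π * π₁) = 1 := by
    have hmon : Perm.sign (mon (e := e) π u 0) = 1 := by
      have h := g.2
      change Perm.sign G₀ = 1 at h
      rw [hG₀, map_mul, sign_eq_one_of_pow_eq_one hp2 (shift_pow_p b), mul_one] at h
      exact h
    have h1 : Perm.sign (mon (e := e) (π * π₁) a' 0) = 1 := by
      rw [← hprod, map_mul, hmon, htA, mul_one]
    rw [mon_eq, show (fun i => (0 : Fin k → ZMod p) ((π * π₁).symm i)) = 0 from rfl, shift_zero,
      one_mul, map_mul, sign_torus, ha', map_one, map_one, mul_one, sign_lift] at h1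
    rcases Int.units_eq_one_or (Perm.sign (π * π₁)) with h | h
    · exact h
    · rw [h, (hp.out.odd_of_ne_two hp2).neg_one_pow] at h1
      exact absurd h1 (by decide)
  have hgM : G₀ ∈ M := by
    rw [hG₀]
    refine M.mul_mem ((Subgroup.mul_mem_cancel_right M (ht l)).1 ?_) (hshift b)
    rw [hprod, mon_eq, show (fun i => (0 : Fin k → ZMod p) ((π * π₁).symm i)) = 0 from rfl,
      shift_zero, one_mul]
    exact M.mul_mem (hlift _ hπs) (htorus _ ha')
  obtain ⟨g', hg', hgg⟩ := hgM
  obtain rfl : g' = g := Subtype.ext hgg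
  obtain ⟨hgR, hgmap⟩ := (Fusion.mem_mapGroup_iff hR₁).1 hg'
  exact Fusion.isMap_conj_climb hsat hinv.1 le_rfl hg hR₁ hR₁c hgR hgmap

end CfsgLib.AltSimple
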