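import Mathlib
import Cfsg.Agent.Lib.Fusion.AltSimple.Automizer
import Cfsg.Agent.Lib.Fusion.SimpleCases
import Cfsg.Agent.Lib.Fusion.TransportGroup
import Cfsg.Agent.Lib.SylowTwoSym.Basic

/-!
The fusion system of an alternating group is simple when `p² ≤ n` and `n % p ≤ 1`.
-/

set_option autoImplicit false

namespace CfsgLib.AltSimple

open Equiv Cfsg Cfsg.FusionSystem

/-- An isomorphism of groups carrying Sylow subgroups onto each other carries simplicity. -/
theorem isSimple_of_mulEquiv {G H : Type*} [Group G] [Group H] [Finite G] [Finite H] {p : ℕ}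
    [Fact p.Prime] (S : Sylow p G) (T : Sylow p H) (φ : G ≃* H)
    (hφ : (S : Subgroup G).map φ.toMonoidHom = (T : Subgroup H))
    (h : (groupFusionSystem (S : Subgroup G)).IsSimple p) :
    (groupFusionSystem (T : Subgroup H)).IsSimple p := by
  have hT : ∀ y ∈ (T : Subgroup H), φ.symm y ∈ (S : Subgroup G) := fun y hy => by
    obtain ⟨x, hx, rfl⟩ := hφ.ge hy
    rw [MulEquiv.coe_toMonoidHom, φ.symm_apply_apply]
    exact hx
  have hS : ∀ x ∈ (S : Subgroup G), φ x ∈ (T : Subgroup H) := fun x hx => hφ.le ⟨x, hx, rfl⟩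
  have hk : Fusion.Transport (groupFusionSystem (S : Subgroup G))
      (groupFusionSystem (T : Subgroup H)) φ φ.symm := by
    refine ⟨hS, hT, fun x _ => φ.symm_apply_apply x, fun y _ => φ.apply_symm_apply y,
      fun x _ y _ => map_mul φ x y, fun P f P' hf hP' => ?_, fun P' f P hf hP => ?_⟩
    · obtain ⟨hPS, hfS, g, hg⟩ := Fusion.isMap_group_iff.1 hf
      refine Fusion.isMap_group_iff.2 ⟨fun y hy => ?_, fun y hy => ?_, φ g, fun y hy => ?_⟩
      all_goals obtain ⟨x, hx, rfl⟩ := hP'.subset hy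
      · exact hS x (hPS hx)
      · simp only [MulEquiv.symm_apply_apply]; exact hS _ (hfS x hx)
      · simp only [MulEquiv.symm_apply_apply, hg x hx, map_mul, map_inv]
    · obtain ⟨hPS, hfS, g, hg⟩ := Fusion.isMap_group_iff.1 hf
      refine Fusion.isMap_group_iff.2 ⟨fun y hy => ?_, fun y hy => ?_, φ.symm g, fun y hy => ?_⟩
      all_goals obtain ⟨x, hx, rfl⟩ := hP.subset hy
      · exact hT x (hPS hx)
      · simp only [MulEquiv.apply_symm_apply]; exact hT _ (hfS x hx)
      · simp only [MulEquiv.apply_symm_apply, hg x hx, map_mul, map_inv]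
  exact hk.isSimple S.isPGroup' h

variable {p k e : ℕ} [hp : Fact p.Prime]

theorem exists_simple_model (hk : p ≤ k) (hk3 : 3 ≤ k) (he : e ≤ 1) (hp2e : p = 2 → 6 ≤ 2 * k + e) :
    ∃ S : Sylow p (Alt p k e), (groupFusionSystem (S : Subgroup (Alt p k e))).IsSimple p := by
  classical
  obtain ⟨ι⟩ := Function.Embedding.nonempty_of_card_le (α := ZMod p) (β := Fin k) (by simpa using hk)
  have hc : Equiv.Perm.viaEmbeddingHom ι (Equiv.addRight (1 : ZMod p)) ^ p = 1 := by
    rw [← map_pow, show Equiv.addRight (1 : ZMod p) = transHom p (Multiplicative.ofAdd 1) from rfl,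
      ← map_pow, ← ofAdd_nsmul, nsmul_eq_mul, ZMod.natCast_self, zero_mul, ofAdd_zero, map_one,
      map_one]
  have hcp : IsPGroup p
      (Subgroup.zpowers (Equiv.Perm.viaEmbeddingHom ι (Equiv.addRight (1 : ZMod p)))) := by
    rintro ⟨_, n, rfl⟩
    refine ⟨1, Subtype.ext ?_⟩
    show (_ ^ n) ^ p ^ 1 = 1
    rw [pow_one, ← zpow_natCast, ← zpow_mul, mul_comm, zpow_mul, zpow_natCast, hc, one_zpow]
  obtain ⟨P, hP⟩ := hcp.exists_le_sylow
  have hcP := hP (Subgroup.mem_zpowers _)
  obtain ⟨S, hS⟩ := exists_sylow_alt (k := k) (e := e) (lt_of_le_of_lt he hp.out.one_lt) P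
  refine ⟨S, ?_⟩
  have hS1 : (S : Subgroup (Alt p k e)) ≠ ⊥ := by
    intro h
    obtain ⟨w, hw, hw0, -⟩ := exists_adm (p := p) (e := e) hk3
      (show (⟨0, by omega⟩ : Fin k) ≠ ⟨1, by omega⟩ by simp)
    have hmem := shift_mem hS hw
    rw [h, Subgroup.mem_bot] at hmem
    have := shift_injective ((congrArg Subtype.val hmem).trans shift_zero.symm)
    rw [this] at hw0
    exact one_ne_zero hw0.symm
  have hcl : ∀ T : Subgroup (Alt p k e),
      (groupFusionSystem (S : Subgroup (Alt p k e))).StronglyClosed T →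
        T = ⊥ ∨ T = (S : Subgroup (Alt p k e)) := by
    refine stronglyClosed_eq he hk3 (fun h2 => ?_) hS
    subst h2
    refine ⟨ι 0, ι 1, fun h => zero_ne_one (ι.injective h), ?_⟩
    convert hcP using 1
    refine Equiv.ext fun i => ?_
    by_cases hi : i ∈ Set.range ι
    · obtain ⟨y, rfl⟩ := hi
      rw [Equiv.Perm.viaEmbeddingHom_apply, Equiv.Perm.viaEmbedding_apply]
      obtain rfl | rfl : y = 0 ∨ y = 1 := by
        fin_cases y <;> first | exact Or.inl rfl | exact Or.inr rfl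
      · simp
      · rw [swap_apply_right]
        congr 1
        exact (CharTwo.add_self_eq_zero (1 : ZMod 2)).symm
    · rw [Equiv.Perm.viaEmbeddingHom_apply, Equiv.Perm.viaEmbedding_apply_of_notMem _ _ _ hi,
        swap_apply_of_ne_of_ne (fun h => hi ⟨_, h.symm⟩) fun h => hi ⟨_, h.symm⟩]
  rcases eq_or_ne p 2 with rfl | hp2
  · refine Fusion.isSimple_group_of_isPGroup S hS1 hcl
      (IsPGroup.to_le (Fusion.isPGroup_autInducedBy S.isPGroup' _) fun α hα => ?_)
    obtain ⟨g, -, hg⟩ := (Fusion.mem_autInducedBy_iff _ _ α).1 hα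
    have hgn : g ∈ Subgroup.normalizer ((S : Subgroup (Alt 2 k e)) : Set (Alt 2 k e)) :=
      Subgroup.mem_normalizer_fintype fun x hx => hg ⟨x, hx⟩ ▸ SetLike.coe_mem _
    have hsn : SylowTwoSym.SelfNorm (Alt 2 k e) :=
      (SylowTwoSym.selfNorm_alternating (2 * k + e) (hp2e rfl)).congr
        (Fintype.equivFinOfCardEq (α := Pts 2 k e) (by simp; omega)).symm.altCongrHom
    exact (Fusion.mem_autInducedBy_iff _ _ α).2 ⟨g, hsn S g hgn, hg⟩
  · refine ⟨Fusion.isSaturated_group S, hS1, fun T E hE => ?_⟩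
    rcases hcl T hE.1.2.2.2.1 with hT | hT
    · exact Or.inl hT
    · refine Or.inr ⟨hT, ?_⟩
      subst hT
      exact Fusion.hom_eq_of_normalizer hE.1.2.2 fun g hg =>
        isMap_conj_of_normalizer hp2 hk he ι hcP hS hE.1.1 hE.1.2.2 hg

/-- The theorem. -/
theorem isSimple_alternating (n p : ℕ) (hn : 6 ≤ n) [Fact p.Prime] (hnp : p ^ 2 ≤ n)
    (hb : n % p ≤ 1) (S : Sylow p (alternatingGroup (Fin n))) :
    (groupFusionSystem (S : Subgroup (alternatingGroup (Fin n)))).IsSimple p := by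
  have hp := (Fact.out : p.Prime)
  have hk : p ≤ n / p := (Nat.le_div_iff_mul_le hp.pos).2 (by rwa [← pow_two])
  have hk3 : 3 ≤ n / p := by
    rcases eq_or_ne p 2 with rfl | hp2
    · omega
    · have := hp.two_le; omega
  obtain ⟨S₀, hS₀⟩ := exists_simple_model (p := p) hk hk3 hb fun h => by subst h; omega
  set φ := (Fintype.equivFinOfCardEq (α := Pts p (n / p) (n % p)) (n := n) (by
    simp only [Fintype.card_sum, Fintype.card_prod, Fintype.card_fin, ZMod.card]
    exact Nat.div_add_mod' n p)).altCongrHom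
  obtain ⟨g, hg⟩ := MulAction.exists_smul_eq (alternatingGroup (Fin n))
    (S₀.mapSurjective (f := φ.toMonoidHom) φ.surjective) S
  refine isSimple_of_mulEquiv S₀ S (φ.trans (MulAut.conj g)) ?_ hS₀
  rw [← hg, Sylow.coe_subgroup_smul]
  rw [show (φ.trans (MulAut.conj g)).toMonoidHom =
    (MulAut.conj g).toMonoidHom.comp φ.toMonoidHom from rfl, ← Subgroup.map_map]
  rfl

end CfsgLib.AltSimple
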